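/-
Bruhat decomposition inside the fixed points of the antidiagonal unitary twist of `GL`.
-/
import Cfsg.Agent.Lib.PronormalPSL.Overgroups

set_option autoImplicit false

namespace CfsgLib.PronormalPSU

open Matrix CfsgLib.PronormalPSL CfsgLib.Fusion.UniTri CfsgLib.GLUnipotent

variable {F : Type*} [Field F] {n : ℕ}

/-- The twist `g ↦ J (σ g)⁻ᵀ J`, `J` antidiagonal. -/
def tw (σ : F ≃+* F) : GL (Fin n) F →* GL (Fin n) F where
  toFun g := ⟨Matrix.of fun i j => σ ((g⁻¹).1 (Fin.rev j) (Fin.rev i)),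
    Matrix.of fun i j => σ (g.1 (Fin.rev j) (Fin.rev i)), by
      ext i j
      rw [Matrix.mul_apply]
      simp only [Matrix.of_apply, ← map_mul, ← map_sum]
      rw [← Equiv.sum_comp Fin.revPerm]
      simp only [Fin.revPerm_apply, Fin.rev_rev]
      rw [Finset.sum_congr rfl fun k _ => mul_comm ((g⁻¹).1 k (Fin.rev i)) (g.1 (Fin.rev j) k),
        ← Matrix.mul_apply, g.mul_inv, one_apply, one_apply, apply_ite σ, map_one, map_zero]
      simp [eq_comm], by
      ext i j
      rw [Matrix.mul_apply]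
      simp only [Matrix.of_apply, ← map_mul, ← map_sum]
      rw [← Equiv.sum_comp Fin.revPerm]
      simp only [Fin.revPerm_apply, Fin.rev_rev]
      rw [Finset.sum_congr rfl fun k _ => mul_comm (g.1 k (Fin.rev i)) ((g⁻¹).1 (Fin.rev j) k),
        ← Matrix.mul_apply, g.inv_mul, one_apply, one_apply, apply_ite σ, map_one, map_zero]
      simp [eq_comm]⟩
  map_one' := Units.ext (by
    ext i j
    simp [one_apply, apply_ite σ, eq_comm])
  map_mul' g h := Units.ext (by
    ext i j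
    show σ (((g * h)⁻¹).1 (Fin.rev j) (Fin.rev i)) =
      ((Matrix.of fun a b => σ ((g⁻¹).1 (Fin.rev b) (Fin.rev a))) *
        (Matrix.of fun a b => σ ((h⁻¹).1 (Fin.rev b) (Fin.rev a))) : Matrix (Fin n) (Fin n) F) i j
    rw [_root_.mul_inv_rev, Units.val_mul, Matrix.mul_apply, Matrix.mul_apply, map_sum]
    simp only [Matrix.of_apply, map_mul]
    rw [← Equiv.sum_comp Fin.revPerm]
    simp only [Fin.revPerm_apply]
    exact Finset.sum_congr rfl fun k _ => mul_comm _ _)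

theorem tw_apply (σ : F ≃+* F) (g : GL (Fin n) F) (i j : Fin n) :
    (tw σ g).1 i j = σ ((g⁻¹).1 (Fin.rev j) (Fin.rev i)) := rfl

/-- The fixed points. -/
def fixG (σ : F ≃+* F) : Subgroup (GL (Fin n) F) :=
  MonoidHom.eqLocus (tw σ) (MonoidHom.id _)

theorem mem_fixG {σ : F ≃+* F} {g : GL (Fin n) F} : g ∈ fixG σ ↔ tw σ g = g := Iff.rfl

variable [Finite F]

variable (F n) in
/-- Upper unitriangular matrices. -/
def uni : Subgroup (GL (Fin n) F) := (upper F n).map SpecialLinearGroup.toGL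

theorem mem_uni {g : GL (Fin n) F} : g ∈ uni F n ↔ IsUni g.1 := by
  refine ⟨fun ⟨u, hu, e⟩ => e ▸ hu, fun h => ⟨⟨g.1, ?_⟩, h, Units.ext rfl⟩⟩
  rw [Matrix.det_of_upperTriangular (fun x y hxy => h.1 x y hxy)]
  exact Finset.prod_eq_one fun x _ => h.2 x

theorem isUni_mask (P : Fin n → Fin n → Prop) [DecidableRel P] (w : uni F n) :
    IsUni (Matrix.of fun x y => if x = y ∨ P x y then w.1.1 x y else 0) :=
  ⟨fun x y h => by simp [(mem_uni.1 w.2).1 x y h], fun x => by simp [(mem_uni.1 w.2).2 x]⟩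

/-- An invertible matrix from a unitriangular one. -/
noncomputable def ofUni {M : Matrix (Fin n) (Fin n) F} (h : IsUni M) : GL (Fin n) F :=
  SpecialLinearGroup.toGL ⟨M, by
    rw [Matrix.det_of_upperTriangular (fun x y hxy => h.1 x y hxy)]
    exact Finset.prod_eq_one fun x _ => h.2 x⟩

theorem ofUni_val {M : Matrix (Fin n) (Fin n) F} (h : IsUni M) : (ofUni h).1 = M := rfl

/-- Keep the entries in a pattern. -/
noncomputable def maskU (P : Fin n → Fin n → Prop) [DecidableRel P] (w : uni F n) : GL (Fin n) F :=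
  ofUni (isUni_mask P w)

theorem maskU_apply (P : Fin n → Fin n → Prop) [DecidableRel P] (w : uni F n) (x y : Fin n) :
    (maskU P w).1 x y = if x = y ∨ P x y then w.1.1 x y else 0 := rfl

theorem maskU_mem (P : Fin n → Fin n → Prop) [DecidableRel P] (w : uni F n) :
    maskU P w ∈ uni F n := mem_uni.2 (isUni_mask P w)

variable (F) in
/-- Conjugates of the upper triangular group by permutation matrices. -/
def upat (π : Equiv.Perm (Fin n)) : Subgroup (GL (Fin n) F) :=
  (Cfsg.upperTriangularGL n F).comap (MulAut.conj (permGL n F π)⁻¹).toMonoidHom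

omit [Finite F] in
theorem mem_upat {π : Equiv.Perm (Fin n)} {g : GL (Fin n) F} :
    g ∈ upat F π ↔ ∀ i j, j < i → g.1 (π i) (π j) = 0 := by
  have h : ∀ i j, (MulAut.conj (permGL n F π)⁻¹ g).1 i j = g.1 (π i) (π j) := by
    intro i j
    rw [MulAut.conj_apply, inv_inv, ← map_inv, Units.val_mul, Units.val_mul, permGL_val,
      permGL_val, Matrix.mul_apply, Finset.sum_eq_single (π j), Matrix.mul_apply,
      Finset.sum_eq_single (π i)]
    · simp [pmat]
    · intro z _ hz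
      have : ¬ i = π.symm z := fun e => hz (by simp [e])
      simp [pmat, this]
    · simp
    · intro z _ hz
      simp [pmat, hz]
    · simp
  constructor
  · intro hg i j hij
    rw [← h]
    exact hg hij
  · intro hg i j hij
    show (MulAut.conj (permGL n F π)⁻¹ g).1 i j = 0
    rw [h]
    exact hg i j hij

omit [Finite F] in
theorem Mono.inv {π : Equiv.Perm (Fin n)} {m : GL (Fin n) F} (hm : Mono π m.1) :
    Mono π⁻¹ (m⁻¹).1 := by
  intro x y h
  have e := congrFun (congrFun (m.inv_mul) x) (π⁻¹ y)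
  rw [Matrix.mul_apply, one_apply_ne h, Finset.sum_eq_single y] at e
  · refine (mul_eq_zero.1 e).resolve_right ?_
    have := hm.ne_zero (π⁻¹ y)
    rwa [show π (π⁻¹ y) = y by simp] at this
  · intro z _ hz
    rw [hm z (π⁻¹ y) (by simpa using hz), mul_zero]
  · simp

omit [Finite F] in
theorem conj_apply {π : Equiv.Perm (Fin n)} {m : GL (Fin n) F} (hm : Mono π m.1)
    (g : GL (Fin n) F) (i j : Fin n) :
    (m⁻¹ * g * m).1 i j = (m⁻¹).1 i (π i) * g.1 (π i) (π j) * m.1 (π j) j := by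
  rw [Units.val_mul, Units.val_mul, Matrix.mul_apply, Finset.sum_eq_single (π j),
    Matrix.mul_apply, Finset.sum_eq_single (π i)]
  · intro z _ hz
    rw [Mono.inv hm i z (fun e => hz (by simp [e])), zero_mul]
  · simp
  · intro z _ hz
    rw [hm z j hz, mul_zero]
  · simp

omit [Finite F] in
theorem inv_mul_diag {π : Equiv.Perm (Fin n)} {m : GL (Fin n) F} (hm : Mono π m.1) (i : Fin n) :
    (m⁻¹).1 i (π i) * m.1 (π i) i = 1 := by
  have h := conj_apply hm 1 i i
  rw [mul_one, inv_mul_cancel, Units.val_one, one_apply_eq, one_apply_eq, mul_one] at h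
  exact h.symm

theorem conj_uni {π : Equiv.Perm (Fin n)} {m u : GL (Fin n) F} (hm : Mono π m.1)
    (hu : u ∈ uni F n) (hu' : u ∈ upat F π) : m⁻¹ * u * m ∈ uni F n := by
  refine mem_uni.2 ⟨fun x y h => ?_, fun x => ?_⟩
  · rw [conj_apply hm, mem_upat.1 hu' x y h, mul_zero, zero_mul]
  · rw [conj_apply hm, (mem_uni.1 hu).2, mul_one, inv_mul_diag hm]

/-- The monomial part of a Bruhat decomposition is unique. -/
theorem mono_unique {a c : GL (Fin n) F} (ha : a ∈ uni F n) (hc : c ∈ uni F n)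
    {π ρ : Equiv.Perm (Fin n)} {m m' : GL (Fin n) F} (hm : Mono π m.1) (hm' : Mono ρ m'.1)
    (h : a * m = m' * c) : π = ρ ∧ m = m' := by
  have hX : ∀ y, m.1 (π y) y = m'.1 (π y) (ρ⁻¹ (π y)) * c.1 (ρ⁻¹ (π y)) y := by
    intro y
    have e := congrArg (fun g : GL (Fin n) F => g.1 (π y) y) h
    rw [Units.val_mul, Units.val_mul, Matrix.mul_apply, Matrix.mul_apply,
      Finset.sum_eq_single (π y), Finset.sum_eq_single (ρ⁻¹ (π y))] at e
    · rwa [(mem_uni.1 ha).2, one_mul] at e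
    · intro z _ hz
      rw [hm' (π y) z (fun e' => hz (by simp [e'])), zero_mul]
    · simp
    · intro z _ hz
      rw [hm z y hz, mul_zero]
    · simp
  have hle : ∀ y, ρ⁻¹ (π y) ≤ y := by
    intro y
    by_contra hlt
    refine hm.ne_zero y ?_
    rw [hX, (mem_uni.1 hc).1 _ _ (not_le.1 hlt), mul_zero]
  have hid : ∀ y, ρ⁻¹ (π y) = y := by
    intro y
    induction y using WellFoundedLT.induction with
    | _ y ih =>
      rcases (hle y).lt_or_eq with h' | h'
      · exact π.injective (ρ⁻¹.injective (ih _ h'))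
      · exact h'
  have hπ : π = ρ := Equiv.ext fun y => by
    have := congrArg ρ (hid y)
    simpa using this
  refine ⟨hπ, Units.ext (Matrix.ext fun x y => ?_)⟩
  subst hπ
  by_cases hx : x = π y
  · subst hx
    rw [hX, hid, (mem_uni.1 hc).2, mul_one]
  · rw [hm x y hx, hm' x y hx]

theorem eq_one_of_mem_upat {π : Equiv.Perm (Fin n)} {x : GL (Fin n) F} (hx : x ∈ uni F n)
    (h1 : x ∈ upat F (π * Fin.revPerm)) (h2 : x ∈ upat F π) : x = 1 := by
  refine Units.ext (Matrix.ext fun a b => ?_)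
  rw [Units.val_one]
  by_cases hab : a = b
  · subst hab; rw [(mem_uni.1 hx).2, one_apply_eq]
  · rw [one_apply_ne hab]
    obtain ⟨i, rfl⟩ := π.surjective a
    obtain ⟨j, rfl⟩ := π.surjective b
    rcases lt_or_gt_of_ne (fun e : i = j => hab (congrArg π e)) with h | h
    · have := mem_upat.1 h1 (Fin.rev i) (Fin.rev j) (Fin.rev_lt_rev.2 h)
      simpa using this
    · exact mem_upat.1 h2 i j h

theorem exists_split (π : Equiv.Perm (Fin n)) {u : GL (Fin n) F} (hu : u ∈ uni F n) :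
    ∃ a ∈ uni F n ⊓ upat F (π * Fin.revPerm), ∃ b ∈ uni F n ⊓ upat F π, u = a * b := by
  classical
  set A := uni F n ⊓ upat F (π * Fin.revPerm) with hA
  set B := uni F n ⊓ upat F π with hB
  let f : A × B → uni F n := fun p =>
    ⟨p.1.1 * p.2.1, mul_mem (Subgroup.mem_inf.1 p.1.2).1 (Subgroup.mem_inf.1 p.2.2).1⟩
  have hf : Function.Injective f := by
    rintro ⟨a, b⟩ ⟨a', b'⟩ e
    have e' : a.1 * b.1 = a'.1 * b'.1 := congrArg Subtype.val e
    have e2 : a'.1⁻¹ * a.1 = b'.1 * b.1⁻¹ := by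
      rw [eq_mul_inv_iff_mul_eq, mul_assoc, e', inv_mul_cancel_left]
    have h1 := A.mul_mem (A.inv_mem a'.2) a.2
    have h2 := B.mul_mem b'.2 (B.inv_mem b.2)
    rw [← e2] at h2
    have h3 := eq_one_of_mem_upat (Subgroup.mem_inf.1 h1).1 (Subgroup.mem_inf.1 h1).2
      (Subgroup.mem_inf.1 h2).2
    rw [h3] at e2
    exact Prod.ext (Subtype.ext (inv_mul_eq_one.1 h3).symm)
      (Subtype.ext (mul_inv_eq_one.1 e2.symm).symm)
  -- masks
  let g : uni F n → A × B := fun w =>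
    (⟨maskU (fun x y => π⁻¹ y < π⁻¹ x) w, maskU_mem _ w, mem_upat.2 fun i j h => by
        rw [maskU_apply, if_neg]
        rintro (e | e)
        · exact h.ne (Fin.rev_injective (π.injective e)).symm
        · simp at e
          exact absurd h (not_lt.2 e.le)⟩,
    ⟨maskU (fun x y => π⁻¹ x < π⁻¹ y) w, maskU_mem _ w, mem_upat.2 fun i j h => by
        rw [maskU_apply, if_neg]
        rintro (e | e)
        · exact h.ne (π.injective e).symm
        · simp at e
          exact absurd h (not_lt.2 e.le)⟩)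
  have hg : Function.Injective g := by
    intro w w' e
    refine Subtype.ext (Units.ext (Matrix.ext fun x y => ?_))
    have e1 : (maskU (fun x y => π⁻¹ y < π⁻¹ x) w).1 x y =
        (maskU (fun x y => π⁻¹ y < π⁻¹ x) w').1 x y :=
      congrArg (fun p : A × B => p.1.1.1 x y) e
    have e2 : (maskU (fun x y => π⁻¹ x < π⁻¹ y) w).1 x y =
        (maskU (fun x y => π⁻¹ x < π⁻¹ y) w').1 x y :=
      congrArg (fun p : A × B => p.2.1.1 x y) e
    rw [maskU_apply, maskU_apply] at e1 e2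
    by_cases hxy : x = y
    · simpa [hxy] using e1
    · rcases lt_or_gt_of_ne (fun h : π⁻¹ x = π⁻¹ y => hxy (π⁻¹.injective h)) with h | h
      · rwa [if_pos (Or.inr h), if_pos (Or.inr h)] at e2
      · rwa [if_pos (Or.inr h), if_pos (Or.inr h)] at e1
  obtain ⟨⟨a, b⟩, hab⟩ :=
    (hf.bijective_of_nat_card_le (Nat.card_le_card_of_injective g hg)).2 ⟨u, hu⟩
  exact ⟨a, a.2, b, b.2, (congrArg Subtype.val hab).symm⟩

variable {σ : F ≃+* F}

theorem tw_mem_uni {g : GL (Fin n) F} (hg : g ∈ uni F n) : tw σ g ∈ uni F n := by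
  have h := mem_uni.1 ((uni F n).inv_mem hg)
  refine mem_uni.2 ⟨fun x y hxy => ?_, fun x => ?_⟩
  · rw [tw_apply, h.1 _ _ (Fin.rev_lt_rev.2 hxy), map_zero]
  · rw [tw_apply, h.2, map_one]

omit [Finite F] in
theorem tw_mem_upat {π : Equiv.Perm (Fin n)} (hπ : ∀ i, Fin.rev (π i) = π (Fin.rev i))
    {g : GL (Fin n) F} (hg : g ∈ upat F π) : tw σ g ∈ upat F π := by
  refine mem_upat.2 fun i j hij => ?_
  rw [tw_apply, hπ, hπ, mem_upat.1 ((upat F π).inv_mem hg) _ _ (Fin.rev_lt_rev.2 hij), map_zero]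

omit [Finite F] in
theorem tw_mono {π : Equiv.Perm (Fin n)} {m : GL (Fin n) F} (hm : Mono π m.1) :
    Mono (Fin.revPerm * π * Fin.revPerm) (tw σ m).1 := by
  intro x y h
  rw [tw_apply, Mono.inv hm, map_zero]
  intro e
  refine h ?_
  have e' : π (Fin.rev y) = Fin.rev x := by rw [e]; simp
  simp [e']

theorem exists_uni_mono_uni (g : GL (Fin n) F) :
    ∃ u ∈ uni F n, ∃ w ∈ uni F n, ∃ m π, Mono π m.1 ∧ g = u * m * w := by
  obtain ⟨b, hb, b', hb', π, e⟩ := CfsgLib.GLUnipotent.bruhat g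
  obtain ⟨u, hu, v, ev⟩ := exists_uni_diag hb
  obtain ⟨u', hu', v', ev'⟩ := exists_uni_diag ((Cfsg.upperTriangularGL n F).inv_mem hb')
  refine ⟨_, (mem_uni (g := SpecialLinearGroup.toGL u)).2 hu, _,
    (uni F n).inv_mem ((mem_uni (g := SpecialLinearGroup.toGL u')).2 hu'),
    dg v * permGL n F π * dg v'⁻¹, π, ?_, ?_⟩
  · rw [Units.val_mul, Units.val_mul]
    have := ((mono_dg v).mul (mono_permGL π)).mul (mono_dg v'⁻¹)
    rwa [one_mul, mul_one] at this
  · rw [e, ev, show b' = (b'⁻¹)⁻¹ from (inv_inv b').symm, ev', map_inv]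
    group

/-- Bruhat decomposition in the fixed-point group. -/
theorem exists_fix_bruhat {g : GL (Fin n) F} (hg : g ∈ fixG σ) :
    ∃ u₁ ∈ uni F n ⊓ fixG σ, ∃ u₃ ∈ uni F n ⊓ fixG σ, ∃ m ∈ fixG σ, ∃ π, Mono π m.1 ∧
      (∀ i, Fin.rev (π i) = π (Fin.rev i)) ∧ g = u₁ * m * u₃ := by
  obtain ⟨u, hu, w, hw, m, π, hm, e⟩ := exists_uni_mono_uni g
  have e' : tw σ u * tw σ m * tw σ w = g := by
    rw [← map_mul, ← map_mul, ← e]; exact hg
  obtain ⟨hπ, hmm⟩ := mono_unique
    (a := (tw σ u)⁻¹ * u) ((uni F n).mul_mem ((uni F n).inv_mem (tw_mem_uni hu)) hu)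
    (c := tw σ w * w⁻¹) ((uni F n).mul_mem (tw_mem_uni hw) ((uni F n).inv_mem hw))
    hm (tw_mono hm) (by
      calc (tw σ u)⁻¹ * u * m = (tw σ u)⁻¹ * (u * m * w) * w⁻¹ := by group
        _ = tw σ m * (tw σ w * w⁻¹) := by rw [← e, ← e']; group)
  have hrev : ∀ i, Fin.rev (π i) = π (Fin.rev i) := fun i => by
    conv_lhs => rw [hπ]
    simp
  have hrev' : ∀ i, Fin.rev ((π * Fin.revPerm : Equiv.Perm (Fin n)) i) =
      (π * Fin.revPerm : Equiv.Perm (Fin n)) (Fin.rev i) := fun i => by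
    simp [hrev]
  obtain ⟨a, ha, b, hb, rfl⟩ := exists_split π hu
  set u₃ := m⁻¹ * b * m * w with hu₃
  have hu₃U : u₃ ∈ uni F n := (uni F n).mul_mem (conj_uni hm hb.1 hb.2) hw
  have e3 : g = a * m * u₃ := by rw [e, hu₃]; group
  have e4 : tw σ a * m * tw σ u₃ = g := by
    conv_lhs => rw [hmm]
    rw [← map_mul, ← map_mul, ← e3]
    exact hg
  set x := (tw σ a)⁻¹ * a with hx
  have hx1 : x ∈ uni F n := (uni F n).mul_mem ((uni F n).inv_mem (tw_mem_uni ha.1)) ha.1
  have hx2 : x ∈ upat F (π * Fin.revPerm) :=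
    (upat F _).mul_mem ((upat F _).inv_mem (tw_mem_upat hrev' ha.2)) ha.2
  have ex : m⁻¹ * x * m = tw σ u₃ * u₃⁻¹ := by
    calc m⁻¹ * x * m = m⁻¹ * (tw σ a)⁻¹ * (a * m * u₃) * u₃⁻¹ := by rw [hx]; group
      _ = tw σ u₃ * u₃⁻¹ := by rw [← e3, ← e4]; group
  have hx3 : x ∈ upat F π := by
    refine mem_upat.2 fun i j hij => ?_
    have h := (mem_uni.1 ((uni F n).mul_mem (tw_mem_uni (σ := σ) hu₃U) ((uni F n).inv_mem hu₃U))).1 i j hij
    rw [← ex, conj_apply hm] at h
    refine (mul_eq_zero.1 ((mul_eq_zero.1 h).resolve_right (hm.ne_zero j))).resolve_left ?_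
    exact left_ne_zero_of_mul_eq_one (inv_mul_diag hm i)
  have hx0 : x = 1 := eq_one_of_mem_upat hx1 hx2 hx3
  have haf : tw σ a = a := inv_mul_eq_one.1 hx0
  refine ⟨a, ⟨ha.1, haf⟩, u₃, ⟨hu₃U, ?_⟩, m, hmm.symm, π, hm, hrev, e3⟩
  show tw σ u₃ = u₃
  rw [hx0, mul_one, inv_mul_cancel] at ex
  exact mul_inv_eq_one.1 ex.symm

end CfsgLib.PronormalPSU
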