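/-
Overgroups of the unitriangular group inside the fixed points of the twist, `q` even, even degree.
-/
import Cfsg.Agent.Lib.PronormalPSU.Twist

set_option autoImplicit false

namespace CfsgLib.PronormalPSU

open Matrix CfsgLib.PronormalPSL CfsgLib.Fusion.UniTri CfsgLib.GLUnipotent

variable {F : Type*} [Field F] {n : ℕ} {σ : F ≃+* F}

theorem tgl_mul_tgl {i j : Fin n} (h : i ≠ j) (c d : F) : tgl h c * tgl h d = tgl h (c + d) :=
  Units.ext (by
    rw [Units.val_mul, tgl_val, tgl_val, tgl_val]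
    exact transvection_mul_transvection_same (i := i) (j := j) h c d)

theorem tgl_zero {i j : Fin n} (h : i ≠ j) : tgl h (0 : F) = 1 :=
  Units.ext (by rw [tgl_val, transvection_zero, Units.val_one])

theorem tgl_inv {i j : Fin n} (h : i ≠ j) (c : F) : (tgl h c)⁻¹ = tgl h (-c) :=
  inv_eq_of_mul_eq_one_right (by rw [tgl_mul_tgl, add_neg_cancel, tgl_zero])

theorem tgl_congr {i j i' j' : Fin n} (h : i ≠ j) (h' : i' ≠ j') (c : F) (ei : i = i')
    (ej : j = j') : tgl h c = tgl h' c := by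
  subst ei ej; rfl

theorem tgl_commute {i j k l : Fin n} (hij : i ≠ j) (hkl : k ≠ l) (h1 : j ≠ k) (h2 : l ≠ i)
    (c d : F) : Commute (tgl hij c) (tgl hkl d) := by
  refine Units.ext ?_
  rw [Units.val_mul, Units.val_mul, tgl_val, tgl_val]
  simp [transvection, add_mul, mul_add, single_mul_single_of_ne _ _ _ _ h1,
    single_mul_single_of_ne _ _ _ _ h2]
  abel

theorem tw_tgl {i j : Fin n} (h : i ≠ j) (c : F) :
    tw σ (tgl h c) = tgl (Fin.rev_injective.ne h.symm) (-σ c) := by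
  refine Units.ext (Matrix.ext fun x y => ?_)
  rw [tw_apply, tgl_inv, tgl_val, tgl_val]
  simp only [transvection, Matrix.add_apply, map_add, one_apply, single_apply, apply_ite σ,
    map_one, map_zero, map_neg, Fin.rev_eq_iff, Fin.rev_inj]
  congr 1
  · simp [eq_comm]
  · congr 1
    refine propext ⟨fun ⟨h1, h2⟩ => ?_, fun ⟨h1, h2⟩ => ?_⟩ <;> subst h1 h2 <;> simp

theorem mono_mul_tgl_inv {π : Equiv.Perm (Fin n)} {g : GL (Fin n) F} (h : Mono π g.1)
    {i j k l : Fin n} (hij : i ≠ j) (hkl : k ≠ l) (c d : F) :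
    g * (tgl hij c * tgl hkl d) * g⁻¹ =
      tgl (π.injective.ne hij) (c * g.1 (π i) i / g.1 (π j) j) *
        tgl (π.injective.ne hkl) (d * g.1 (π k) k / g.1 (π l) l) := by
  rw [← mul_assoc g, h.conj_tgl hij c, mul_assoc _ g, h.conj_tgl hkl d]
  group

/-- The sum used for the induction. -/
def wt (π : Equiv.Perm (Fin n)) : ℕ := ∑ i : Fin n, i.val * (π i).val

theorem wt_le (π : Equiv.Perm (Fin n)) : wt π ≤ n * n * n := by
  refine (Finset.sum_le_card_nsmul _ _ (n * n) fun i _ => ?_).trans (by simp [mul_assoc])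
  exact Nat.mul_le_mul i.isLt.le (π i).isLt.le

theorem wt_swap_lt {π : Equiv.Perm (Fin n)} {a b : Fin n} (hab : a < b) (hb : b.val = a.val + 1)
    (hd : π b < π a) : wt π < wt (π * Equiv.swap a b) := by
  unfold wt
  rw [← Finset.sum_erase_add _ _ (Finset.mem_univ b),
    ← Finset.sum_erase_add _ _ (Finset.mem_univ b),
    ← Finset.sum_erase_add _ _ (Finset.mem_erase.2 ⟨hab.ne, Finset.mem_univ a⟩),
    ← Finset.sum_erase_add _ _ (Finset.mem_erase.2 ⟨hab.ne, Finset.mem_univ a⟩)]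
  rw [Finset.sum_congr rfl fun i hi => show i.val * ((π * Equiv.swap a b) i).val =
    i.val * (π i).val by
      simp only [Finset.mem_erase] at hi
      rw [Equiv.Perm.mul_apply, Equiv.swap_apply_of_ne_of_ne hi.1 hi.2.1]]
  rw [Equiv.Perm.mul_apply, Equiv.Perm.mul_apply, Equiv.swap_apply_left,
    Equiv.swap_apply_right, hb, add_one_mul, add_one_mul]
  have := Fin.lt_def.1 hd
  omega

variable [CharP F 2]

theorem tw_tgl_two {i j : Fin n} (h : i ≠ j) (c : F) :
    tw σ (tgl h c) = tgl (Fin.rev_injective.ne h.symm) (σ c) := by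
  rw [tw_tgl, CharTwo.neg_eq]

theorem pair_fixed {a b : Fin n} (hab : a ≠ b) (h1 : b ≠ Fin.rev b) (h2 : Fin.rev a ≠ a) :
    tgl hab (1 : F) * tgl (Fin.rev_injective.ne hab.symm) 1 ∈ fixG σ := by
  rw [mem_fixG, map_mul, tw_tgl_two, tw_tgl_two, map_one,
    tgl_congr _ hab 1 (Fin.rev_rev a) (Fin.rev_rev b)]
  exact (tgl_commute hab _ h1 h2 1 1).symm.eq

theorem middle_fixed {a b : Fin n} (hab : a ≠ b) (h : Fin.rev b = a) :
    tgl hab (1 : F) ∈ fixG σ := by
  rw [mem_fixG, tw_tgl_two, map_one]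
  exact tgl_congr _ hab 1 h (by rw [← h, Fin.rev_rev])

variable [Finite F]

omit [CharP F 2] in
theorem tgl_mem_uni {i j : Fin n} (h : i < j) (c : F) : tgl h.ne c ∈ uni F n :=
  Subgroup.mem_map_of_mem _ (el_mem_upper h c)

omit [CharP F 2] in
theorem dg_conj_uni (v : Fin n → Fˣ) {u : GL (Fin n) F} (hu : u ∈ uni F n) :
    dg v * u * (dg v)⁻¹ ∈ uni F n := by
  refine mem_uni.2 ?_
  rw [← map_inv, Units.val_mul, Units.val_mul, dg_val, dg_val]
  refine ⟨fun x y h => ?_, fun x => ?_⟩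
  · rw [mul_diagonal, diagonal_mul, (mem_uni.1 hu).1 x y h, mul_zero, zero_mul]
  · rw [mul_diagonal, diagonal_mul, (mem_uni.1 hu).2, mul_one, Pi.inv_apply,
      Units.val_inv_eq_inv_val, mul_inv_cancel₀ (v x).ne_zero]

/-- The elements of `H` whose conjugates by the fixed diagonal matrices stay in `H`. -/
def tstable (σ : F ≃+* F) (H : Subgroup (GL (Fin n) F)) : Subgroup (GL (Fin n) F) where
  carrier := {h | h ∈ H ∧ ∀ v, dg v ∈ fixG σ → dg v * h * (dg v)⁻¹ ∈ H}
  one_mem' := ⟨H.one_mem, fun v _ => by simp⟩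
  mul_mem' := fun {a b} ha hb => ⟨H.mul_mem ha.1 hb.1, fun v hv => by
    rw [show dg v * (a * b) * (dg v)⁻¹ = (dg v * a * (dg v)⁻¹) * (dg v * b * (dg v)⁻¹) by group]
    exact H.mul_mem (ha.2 v hv) (hb.2 v hv)⟩
  inv_mem' := fun {a} ha => ⟨H.inv_mem ha.1, fun v hv => by
    rw [show dg v * a⁻¹ * (dg v)⁻¹ = (dg v * a * (dg v)⁻¹)⁻¹ by group]
    exact H.inv_mem (ha.2 v hv)⟩

omit [CharP F 2] in
theorem uni_fix_le_tstable (H : Subgroup (GL (Fin n) F)) (hU : uni F n ⊓ fixG σ ≤ H) :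
    uni F n ⊓ fixG σ ≤ tstable σ H := fun u hu =>
  ⟨hU hu, fun v hv => hU ⟨dg_conj_uni v hu.1,
    (fixG σ).mul_mem ((fixG σ).mul_mem hv hu.2) ((fixG σ).inv_mem hv)⟩⟩

omit [CharP F 2] in
/-- Lower root elements in `H` from a monomial element of `H`. -/
theorem low_mem_tstable (H : Subgroup (GL (Fin n) F)) (hU : uni F n ⊓ fixG σ ≤ H)
    {π : Equiv.Perm (Fin n)} {g : GL (Fin n) F} (hm : Mono π g.1) (hg : g ∈ H)
    (hgf : g ∈ fixG σ) {i j k l : Fin n} (hij : i ≠ j) (hkl : k ≠ l) (h1 : π i < π j)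
    (h2 : π k < π l) {c d : F} (hz : tgl hij c * tgl hkl d ∈ fixG σ) :
    tgl hij c * tgl hkl d ∈ tstable σ H := by
  have key : ∀ c d : F, tgl hij c * tgl hkl d ∈ fixG σ → tgl hij c * tgl hkl d ∈ H := by
    intro c d hz
    have h : g * (tgl hij c * tgl hkl d) * g⁻¹ ∈ H := by
      refine hU ⟨?_, (fixG σ).mul_mem ((fixG σ).mul_mem hgf hz) ((fixG σ).inv_mem hgf)⟩
      rw [mono_mul_tgl_inv hm]
      exact (uni F n).mul_mem (tgl_mem_uni h1 _) (tgl_mem_uni h2 _)
    simpa [mul_assoc] using H.mul_mem (H.mul_mem (H.inv_mem hg) h) hg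
  refine ⟨key c d hz, fun v hv => ?_⟩
  have e : dg v * (tgl hij c * tgl hkl d) * (dg v)⁻¹ =
      tgl hij (c * v i / v j) * tgl hkl (d * v k / v l) := by
    rw [show dg v * (tgl hij c * tgl hkl d) * (dg v)⁻¹ =
      (dg v * tgl hij c * (dg v)⁻¹) * (dg v * tgl hkl d * (dg v)⁻¹) by group, dg_tgl, dg_tgl]
  rw [e]
  exact key _ _ (e ▸ (fixG σ).mul_mem ((fixG σ).mul_mem hv hz) ((fixG σ).inv_mem hv))

omit [Finite F] in
theorem mono_swap_word_two {a b : Fin n} (hab : a ≠ b) :
    Mono (Equiv.swap a b) (tgl hab (1 : F) * tgl hab.symm 1 * tgl hab 1).1 := by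
  have h := mono_swap_word (F := F) hab
  rwa [CharTwo.neg_eq] at h

/-- A monomial element of `H` multiplies by a stable element to one of larger weight. -/
theorem exists_step (heven : Even n) (H : Subgroup (GL (Fin n) F))
    (hU : uni F n ⊓ fixG σ ≤ H) (hH : H ≤ fixG σ) {π : Equiv.Perm (Fin n)} {g : GL (Fin n) F}
    (hm : Mono π g.1) (hrev : ∀ i, Fin.rev (π i) = π (Fin.rev i)) (hg : g ∈ H) (hπ : π ≠ 1) :
    ∃ w ∈ tstable σ H, ∃ ρ : Equiv.Perm (Fin n), Mono ρ w.1 ∧
      (∀ i, Fin.rev (ρ i) = ρ (Fin.rev i)) ∧ wt π < wt (π * ρ) := by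
  obtain ⟨a, b, hab, hb, hd⟩ := exists_descent hπ
  have hUs := uni_fix_le_tstable H hU
  have hne : ∀ i : Fin n, Fin.rev i ≠ i := fun i e => by
    have := congrArg Fin.val e
    rw [Fin.val_rev] at this
    obtain ⟨k, hk⟩ := heven
    have := i.isLt
    omega
  by_cases hmid : Fin.rev b = a
  · have hup : tgl hab.ne (1 : F) ∈ tstable σ H :=
      hUs ⟨tgl_mem_uni hab 1, middle_fixed hab.ne hmid⟩
    have hdn : tgl hab.ne' (1 : F) ∈ tstable σ H := by
      have hf : tgl hab.ne' (1 : F) ∈ fixG σ := middle_fixed hab.ne' (by rw [← hmid, Fin.rev_rev])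
      have := low_mem_tstable H hU hm hg (hH hg) hab.ne' hab.ne' hd hd (c := 1) (d := 0)
        (by rwa [tgl_zero, mul_one])
      rwa [tgl_zero, mul_one] at this
    refine ⟨_, (tstable σ H).mul_mem ((tstable σ H).mul_mem hup hdn) hup, Equiv.swap a b,
      mono_swap_word_two hab.ne, fun i => ?_, wt_swap_lt hab hb hd⟩
    have ha : Fin.rev a = b := by rw [← hmid, Fin.rev_rev]
    by_cases h1 : i = a
    · subst h1; rw [Equiv.swap_apply_left, hmid, ha, Equiv.swap_apply_right]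
    · by_cases h2 : i = b
      · subst h2; rw [Equiv.swap_apply_right, ha, hmid, Equiv.swap_apply_left]
      · rw [Equiv.swap_apply_of_ne_of_ne h1 h2, Equiv.swap_apply_of_ne_of_ne]
        · intro e; exact h2 (by rw [← ha, ← e, Fin.rev_rev])
        · intro e; exact h1 (by rw [← hmid, ← e, Fin.rev_rev])
  · set a' := Fin.rev b with ha'
    set b' := Fin.rev a with hb'
    have hab' : a' < b' := Fin.rev_lt_rev.2 hab
    have d1 : b ≠ a' := fun e => hne b e.symm
    have d2 : b' ≠ a := hne a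
    have d3 : a' ≠ a := hmid
    have d4 : b' ≠ b := fun e => hmid (by rw [ha', ← e, hb', Fin.rev_rev])
    have hd' : π b' < π a' := by
      rw [ha', hb', ← hrev, ← hrev]; exact Fin.rev_lt_rev.2 hd
    have hup : tgl hab.ne (1 : F) * tgl hab'.ne 1 ∈ tstable σ H :=
      hUs ⟨(uni F n).mul_mem (tgl_mem_uni hab 1) (tgl_mem_uni hab' 1),
        pair_fixed hab.ne d1 d2⟩
    have hdn : tgl hab.ne' (1 : F) * tgl hab'.ne' 1 ∈ tstable σ H :=
      low_mem_tstable H hU hm hg (hH hg) hab.ne' hab'.ne' hd hd'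
        (pair_fixed hab.ne' (hne a).symm (hne b))
    have hw := (tstable σ H).mul_mem ((tstable σ H).mul_mem hup hdn) hup
    have e : tgl hab.ne (1 : F) * tgl hab'.ne 1 * (tgl hab.ne' 1 * tgl hab'.ne' 1) *
        (tgl hab.ne 1 * tgl hab'.ne 1) =
        (tgl hab.ne (1 : F) * tgl hab.ne' 1 * tgl hab.ne 1) *
          (tgl hab'.ne (1 : F) * tgl hab'.ne' 1 * tgl hab'.ne 1) := by
      have c1 : Commute (tgl hab'.ne (1 : F)) (tgl hab.ne' 1) := tgl_commute _ _ d4 d3.symm 1 1
      have c2 : Commute (tgl hab'.ne' (1 : F)) (tgl hab.ne 1) := tgl_commute _ _ d3 d4.symm 1 1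
      have c3 : Commute (tgl hab'.ne (1 : F)) (tgl hab.ne 1) := tgl_commute _ _ d2 d1 1 1
      calc _ = tgl hab.ne (1 : F) * (tgl hab'.ne 1 * tgl hab.ne' 1) *
            (tgl hab'.ne' 1 * tgl hab.ne 1) * tgl hab'.ne 1 := by group
        _ = tgl hab.ne (1 : F) * tgl hab.ne' 1 * (tgl hab'.ne 1 * tgl hab.ne 1) *
            tgl hab'.ne' 1 * tgl hab'.ne 1 := by rw [c1.eq, c2.eq]; group
        _ = _ := by rw [c3.eq]; group
    refine ⟨_, hw, Equiv.swap a b * Equiv.swap a' b', ?_, fun i => ?_, ?_⟩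
    · rw [e, Units.val_mul]
      exact (mono_swap_word_two hab.ne).mul (mono_swap_word_two hab'.ne)
    · have ea : Fin.rev a' = b := by rw [ha', Fin.rev_rev]
      have eb : Fin.rev b' = a := by rw [hb', Fin.rev_rev]
      simp only [Equiv.Perm.mul_apply]
      by_cases h1 : i = a
      · subst h1
        rw [Equiv.swap_apply_of_ne_of_ne d3.symm d2.symm, Equiv.swap_apply_left, ← hb',
          Equiv.swap_apply_right, Equiv.swap_apply_of_ne_of_ne d3 d1.symm]
      by_cases h2 : i = b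
      · subst h2
        rw [Equiv.swap_apply_of_ne_of_ne d1 d4.symm, Equiv.swap_apply_right, ← ha',
          Equiv.swap_apply_left, Equiv.swap_apply_of_ne_of_ne d2 d4]
      by_cases h3 : i = a'
      · subst h3
        rw [Equiv.swap_apply_left, Equiv.swap_apply_of_ne_of_ne d2 d4, ea, eb,
          Equiv.swap_apply_of_ne_of_ne d1 d4.symm, Equiv.swap_apply_right]
      by_cases h4 : i = b'
      · subst h4
        rw [Equiv.swap_apply_right, Equiv.swap_apply_of_ne_of_ne d3 d1.symm, ea, eb,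
          Equiv.swap_apply_of_ne_of_ne d3.symm d2.symm, Equiv.swap_apply_left]
      rw [Equiv.swap_apply_of_ne_of_ne h3 h4, Equiv.swap_apply_of_ne_of_ne h1 h2,
        Equiv.swap_apply_of_ne_of_ne (fun e => h2 (Fin.rev_injective e))
          (fun e => h1 (Fin.rev_injective e)),
        Equiv.swap_apply_of_ne_of_ne (fun e => h4 (Fin.rev_injective (e.trans eb.symm)))
          (fun e => h3 (Fin.rev_injective (e.trans ea.symm)))]
    · have hb2 : b'.val = a'.val + 1 := by
        rw [ha', hb', Fin.val_rev, Fin.val_rev]; have := b.isLt; omega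
      refine (wt_swap_lt hab hb hd).trans ?_
      rw [← mul_assoc]
      refine wt_swap_lt hab' hb2 ?_
      rw [Equiv.Perm.mul_apply, Equiv.Perm.mul_apply, Equiv.swap_apply_of_ne_of_ne d2 d4,
        Equiv.swap_apply_of_ne_of_ne d3 d1.symm]
      exact hd'

theorem mono_mem_tstable (heven : Even n) (H : Subgroup (GL (Fin n) F))
    (hU : uni F n ⊓ fixG σ ≤ H) (hH : H ≤ fixG σ) :
    ∀ (k : ℕ) (π : Equiv.Perm (Fin n)) (g : GL (Fin n) F), Mono π g.1 →
      (∀ i, Fin.rev (π i) = π (Fin.rev i)) → g ∈ H → n * n * n ≤ k + wt π →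
      g ∈ tstable σ H := by
  intro k
  induction k using Nat.strong_induction_on with
  | _ k ih =>
    intro π g hm hrev hg hk
    by_cases hπ : π = 1
    · subst hπ
      refine ⟨hg, fun v _ => ?_⟩
      have e : dg v * g = g * dg v := by
        refine Units.ext ?_
        ext x y
        rw [Units.val_mul, Units.val_mul, dg_val, diagonal_mul, mul_diagonal]
        by_cases hxy : x = y
        · subst hxy; exact mul_comm _ _
        · rw [hm x y hxy, zero_mul, mul_zero]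
      rwa [e, mul_inv_cancel_right]
    · obtain ⟨w, hw, ρ, hwm, hρ, hlt⟩ := exists_step heven H hU hH hm hrev hg hπ
      have h1 := wt_le (π * ρ)
      have h2 := ih (n * n * n - wt (π * ρ)) (by omega) (π * ρ) (g * w)
        (by rw [Units.val_mul]; exact hm.mul hwm)
        (fun i => by rw [Equiv.Perm.mul_apply, Equiv.Perm.mul_apply, hrev, hρ])
        (H.mul_mem hg hw.1) (by omega)
      have h3 := (tstable σ H).mul_mem h2 ((tstable σ H).inv_mem hw)
      rwa [mul_inv_cancel_right] at h3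

/-- The fixed diagonal matrices normalise the overgroups of the fixed unitriangular group. -/
theorem le_tstable (heven : Even n) (H : Subgroup (GL (Fin n) F))
    (hU : uni F n ⊓ fixG σ ≤ H) (hH : H ≤ fixG σ) : H ≤ tstable σ H := by
  intro g hg
  obtain ⟨u, hu, w, hw, m, -, π, hm, hrev, rfl⟩ := exists_fix_bruhat (hH hg)
  have hmH : m ∈ H := by
    have := H.mul_mem (H.mul_mem (H.inv_mem (hU hu)) hg) (H.inv_mem (hU hw))
    simpa [mul_assoc] using this
  exact (tstable σ H).mul_mem ((tstable σ H).mul_mem (uni_fix_le_tstable H hU hu)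
    (mono_mem_tstable heven H hU hH (n * n * n) π m hm hrev hmH (Nat.le_add_right _ _)))
    (uni_fix_le_tstable H hU hw)

/-- The normaliser of the fixed unitriangular group. -/
theorem exists_uni_dg (heven : Even n) {g : GL (Fin n) F} (hg : g ∈ fixG σ)
    (hn : ∀ u ∈ uni F n ⊓ fixG σ, g * u * g⁻¹ ∈ uni F n) :
    ∃ u ∈ uni F n ⊓ fixG σ, ∃ v, dg v ∈ fixG σ ∧ g = u * dg v := by
  obtain ⟨u₁, hu₁, u₃, hu₃, m, hmf, π, hm, hrev, rfl⟩ := exists_fix_bruhat hg
  have hmn : ∀ u ∈ uni F n ⊓ fixG σ, m * u * m⁻¹ ∈ uni F n := by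
    intro u hu
    have h := hn (u₃⁻¹ * u * u₃)
      (mul_mem (mul_mem (inv_mem hu₃) hu) hu₃)
    have := (uni F n).mul_mem ((uni F n).mul_mem ((uni F n).inv_mem hu₁.1) h) hu₁.1
    rw [show m * u * m⁻¹ = u₁⁻¹ * (u₁ * m * u₃ * (u₃⁻¹ * u * u₃) * (u₁ * m * u₃)⁻¹) * u₁ by group]
    exact this
  have hπ : π = 1 := by
    by_contra hπ
    obtain ⟨a, b, hab, -, hd⟩ := exists_descent hπ
    have hne : ∀ i : Fin n, Fin.rev i ≠ i := fun i e => by
      have := congrArg Fin.val e
      rw [Fin.val_rev] at this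
      obtain ⟨k, hk⟩ := heven
      have := i.isLt
      omega
    have hc : (1 : F) * m.1 (π a) a / m.1 (π b) b ≠ 0 := by
      rw [one_mul]; exact div_ne_zero (hm.ne_zero a) (hm.ne_zero b)
    by_cases hmid : Fin.rev b = a
    · have h := (mem_uni.1 (hmn _ ⟨tgl_mem_uni hab 1, middle_fixed hab.ne hmid⟩)).1 _ _ hd
      rw [hm.conj_tgl hab.ne 1, mul_inv_cancel_right, tgl_val, transvection, Matrix.add_apply,
        one_apply_ne hd.ne', single_apply_same, zero_add] at h
      exact hc h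
    · have hab' : Fin.rev b < Fin.rev a := Fin.rev_lt_rev.2 hab
      have h := (mem_uni.1 (hmn _ ⟨(uni F n).mul_mem (tgl_mem_uni hab 1) (tgl_mem_uni hab' 1),
        pair_fixed hab.ne (fun e => hne b e.symm) (hne a)⟩)).1 _ _ hd
      rw [mono_mul_tgl_inv hm, Units.val_mul, tgl_val, tgl_val, mul_transvection_apply,
        if_neg (fun e => hmid (by rw [π.injective e, Fin.rev_rev])), transvection,
        Matrix.add_apply, one_apply_ne hd.ne', single_apply_same, zero_add, add_zero] at h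
      exact hc h
  subst hπ
  let v : Fin n → Fˣ := fun i => Units.mk0 (m.1 i i) (hm.ne_zero i)
  have hv : m = dg v := Units.ext (Matrix.ext fun x y => by
    rw [dg_val]
    by_cases h : x = y
    · subst h; rw [diagonal_apply_eq]; rfl
    · rw [diagonal_apply_ne _ h, hm x y h])
  refine ⟨u₁ * (m * u₃ * m⁻¹), (uni F n ⊓ fixG σ).mul_mem hu₁ ⟨hmn u₃ hu₃, (fixG σ).mul_mem ((fixG σ).mul_mem hmf hu₃.2) ((fixG σ).inv_mem hmf)⟩,
    v, hv ▸ hmf, ?_⟩
  rw [← hv]; group

end CfsgLib.PronormalPSU
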