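/-
Subgroups of odd index in `PSU(2^w, q)`, `q` even, are pronormal.
-/
import Cfsg.Agent.Lib.PronormalPSU.TwistOvergroups
import Cfsg.Agent.Lib.KnownSimple.Unitary.Basic
import Cfsg.Agent.Lib.PronormalPSL.Abstract

set_option autoImplicit false

namespace CfsgLib.PronormalPSU

open Matrix CfsgLib.PronormalPSL CfsgLib.Fusion.UniTri CfsgLib.UnitarySpec

variable {F : Type*} [Field F]

/-- Every non-degenerate Hermitian matrix is congruent to the identity. -/
theorem exists_congr_one [Finite F] {σ : F ≃+* F} (hinv : ∀ a, σ (σ a) = a)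
    (hne : σ ≠ RingEquiv.refl F) {ι : Type} [Fintype ι] [DecidableEq ι] {H : Matrix ι ι F}
    (hH : Hᵀ = H.map σ) (hHd : H.det ≠ 0) : ∃ x : GL ι F, x.1ᵀ * H * x.1.map σ = 1 := by
  classical
  let B : (ι → F) →ₛₗ[(σ : F →+* F)] (ι → F) →ₗ[F] F :=
    LinearMap.mk₂'ₛₗ (σ : F →+* F) (RingHom.id F) (fun u v => v ⬝ᵥ (H *ᵥ (σ ∘ u)))
      (fun u u' v => by
        rw [show (σ ∘ (u + u') : ι → F) = σ ∘ u + σ ∘ u' by funext i; simp, mulVec_add, dotProduct_add])
      (fun c u v => by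
        rw [show (σ ∘ (c • u) : ι → F) = σ c • (σ ∘ u) by funext i; simp, mulVec_smul, dotProduct_smul]; rfl)
      (fun u v v' => by simp)
      (fun c u v => by simp)
  have hB : ∀ u v, B u v = v ⬝ᵥ (H *ᵥ (σ ∘ u)) := fun _ _ => rfl
  have hσσ : ∀ u : ι → F, σ ∘ (σ ∘ u) = u := fun u => by funext i; simp [hinv]
  have hsym : ∀ u v, σ (B u v) = B v u := fun u v => by
    rw [hB, hB, show σ (v ⬝ᵥ (H *ᵥ (σ ∘ u))) = (σ ∘ v) ⬝ᵥ (H.map σ *ᵥ (σ ∘ (σ ∘ u))) by
      rw [show σ (v ⬝ᵥ (H *ᵥ (σ ∘ u))) = σ.toRingHom (v ⬝ᵥ (H *ᵥ (σ ∘ u))) from rfl, RingHom.map_dotProduct]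
      congr 1
      funext i
      exact RingHom.map_mulVec σ.toRingHom H (σ ∘ u) i,
      hσσ, ← hH, mulVec_transpose, dotProduct_comm, ← dotProduct_mulVec]
  have hsep : B.SeparatingLeft := fun u hu => by
    have h1 : H *ᵥ (σ ∘ u) = 0 := funext fun i => by simpa [hB] using hu (Pi.single i 1)
    have h2 := Matrix.eq_zero_of_mulVec_eq_zero hHd h1
    rw [← hσσ u, h2]; funext i; simp
  obtain ⟨b, hb⟩ := Cfsg.Agent.S0755.result (σ : F →+* F) (fun h => hne (RingEquiv.ext fun a => RingHom.congr_fun h a))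
    hinv B ⟨fun u v => hsym u v⟩ ⟨hsep, fun v hv => hsep v fun w => by rw [← hsym w v, hv w, map_zero]⟩
  let e : ι ≃ Fin (Module.finrank F (ι → F)) := (Fintype.equivFinOfCardEq rfl).trans (finCongr (Module.finrank_pi F).symm)
  let x : Matrix ι ι F := Matrix.of fun i j => b (e j) i
  have hx : xᵀ * H * x.map σ = 1 := by
    ext i j
    rw [Matrix.mul_assoc, Matrix.mul_apply']
    have : (fun k => (H * x.map σ) k j) = H *ᵥ (σ ∘ (b (e j) : ι → F)) := rfl
    rw [this]
    show (b (e i) : ι → F) ⬝ᵥ _ = _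
    rw [← hB, hb]
    simp [Matrix.one_apply, eq_comm]
  have hxd : IsUnit x.det := isUnit_iff_ne_zero.2 fun h0 => by
    have := congrArg Matrix.det hx
    rw [det_mul, det_mul, det_transpose, h0, zero_mul, zero_mul, det_one] at this
    exact zero_ne_one this
  exact ⟨GeneralLinearGroup.mkOfDetNeZero x hxd.ne_zero, hx⟩

variable {n : ℕ}

/-- The antidiagonal matrix. -/
def antiJ (F : Type*) [Field F] (n : ℕ) : Matrix (Fin n) (Fin n) F :=
  Matrix.of fun i j => if j = Fin.rev i then 1 else 0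

theorem antiJ_mul (A : Matrix (Fin n) (Fin n) F) (i j : Fin n) :
    (antiJ F n * A) i j = A (Fin.rev i) j := by
  simp [antiJ, Matrix.mul_apply]

theorem mul_antiJ (A : Matrix (Fin n) (Fin n) F) (i j : Fin n) :
    (A * antiJ F n) i j = A i (Fin.rev j) := by
  rw [Matrix.mul_apply, Finset.sum_eq_single (Fin.rev j)]
  · simp [antiJ]
  · intro z _ hz
    rw [antiJ, Matrix.of_apply, if_neg (fun e => hz (by rw [e, Fin.rev_rev])), mul_zero]
  · simp

theorem antiJ_sq : antiJ F n * antiJ F n = 1 := by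
  ext i j
  rw [antiJ_mul]
  simp [antiJ, Matrix.one_apply, eq_comm]

theorem antiJ_transpose : (antiJ F n)ᵀ = antiJ F n := by
  ext i j
  simp only [antiJ, Matrix.transpose_apply, Matrix.of_apply]
  congr 1
  exact propext ⟨fun h => by rw [h, Fin.rev_rev], fun h => by rw [h, Fin.rev_rev]⟩

theorem antiJ_map (σ : F ≃+* F) : (antiJ F n).map σ = antiJ F n := by
  ext i j
  simp [antiJ, apply_ite σ]

theorem mem_fixG_iff {σ : F ≃+* F} (hinv : ∀ a, σ (σ a) = a) (g : GL (Fin n) F) :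
    g ∈ fixG σ ↔ IsU σ (antiJ F n) g.1 := by
  have key : (g⁻¹).1 = antiJ F n * (g.1.map σ)ᵀ * antiJ F n ↔ g ∈ fixG σ := by
    rw [mem_fixG]
    constructor
    · intro h
      refine Units.ext (Matrix.ext fun i j => ?_)
      rw [tw_apply, h, mul_antiJ, antiJ_mul, Fin.rev_rev, Fin.rev_rev, transpose_apply, map_apply,
        hinv]
    · intro h
      ext i j
      rw [mul_antiJ, antiJ_mul, transpose_apply, map_apply]
      conv_rhs => rw [← h, tw_apply, hinv, Fin.rev_rev, Fin.rev_rev]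
  have hmap : ∀ A : Matrix (Fin n) (Fin n) F, (A.map σ).map σ = A := fun A => by
    ext i j; simp [hinv]
  rw [← key]
  show _ ↔ g.1ᵀ * antiJ F n * g.1.map σ = antiJ F n
  constructor
  · intro h
    have h1 : antiJ F n * (g.1.map σ)ᵀ * antiJ F n * g.1 = 1 := by rw [← h, g.inv_mul]
    have h2 : (g.1.map σ)ᵀ * antiJ F n * g.1 = antiJ F n := by
      calc (g.1.map σ)ᵀ * antiJ F n * g.1
          = antiJ F n * (antiJ F n * (g.1.map σ)ᵀ * antiJ F n * g.1) := by
            simp only [← Matrix.mul_assoc, antiJ_sq, Matrix.one_mul]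
        _ = antiJ F n := by rw [h1, Matrix.mul_one]
    have h3 := congrArg (fun A : Matrix (Fin n) (Fin n) F => A.map σ) h2
    simp only [show ∀ A B : Matrix (Fin n) (Fin n) F, (A * B).map σ = A.map σ * B.map σ from
      fun A B => Matrix.map_mul (f := σ.toRingHom), ← transpose_map, hmap, antiJ_map] at h3
    exact h3
  · intro h
    have h3 := congrArg (fun A : Matrix (Fin n) (Fin n) F => A.map σ) h
    simp only [show ∀ A B : Matrix (Fin n) (Fin n) F, (A * B).map σ = A.map σ * B.map σ from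
      fun A B => Matrix.map_mul (f := σ.toRingHom), transpose_map, hmap, antiJ_map] at h3
    refine Units.inv_eq_of_mul_eq_one_left ?_
    calc antiJ F n * (g.1.map σ)ᵀ * antiJ F n * g.1
        = antiJ F n * ((g.1.map σ)ᵀ * antiJ F n * g.1) := by simp only [Matrix.mul_assoc]
      _ = 1 := by rw [h3, antiJ_sq]

theorem isPronormal_su_even [Fintype F] [CharP F 2] {q : ℕ} (hF : Fintype.card F = q ^ 2)
    (heven : Even n) (H : Subgroup (Cfsg.SU n F q)) (hH : Odd H.index) : Cfsg.IsPronormal H := by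
  haveI : Fact (Nat.Prime 2) := ⟨Nat.prime_two⟩
  obtain ⟨σ₀, hσ₀, hinv, hne₀⟩ := CfsgLib.Classical.exists_qPow hF
  let σ : F ≃+* F := RingEquiv.ofBijective σ₀ ⟨σ₀.injective, fun a => ⟨σ₀ a, hinv a⟩⟩
  have hσ : ∀ a, σ a = a ^ q := hσ₀
  have hne : σ ≠ RingEquiv.refl F := fun h => hne₀ (RingHom.ext fun a => RingEquiv.congr_fun h a)
  -- change of basis
  obtain ⟨X, hX⟩ := exists_congr_one (σ := σ) hinv hne (H := antiJ F n)
    (by rw [antiJ_transpose, antiJ_map])
    (fun h => by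
      have := congrArg Matrix.det (antiJ_sq (F := F) (n := n))
      rw [det_mul, h, zero_mul, det_one] at this
      exact zero_ne_one this)
  let ψ : Cfsg.SU n F q →* GL (Fin n) F := (MulAut.conj X).toMonoidHom.comp
    (SpecialLinearGroup.toGL.comp (Cfsg.SU n F q).subtype)
  have hψinj : Function.Injective ψ := (MulAut.conj X).injective.comp
    (SpecialLinearGroup.toGL_injective.comp (Subgroup.subtype_injective _))
  have hmm : ∀ A B : Matrix (Fin n) (Fin n) F, (A * B).map σ = A.map σ * B.map σ :=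
    fun A B => Matrix.map_mul (f := σ.toRingHom)
  -- transport of the forms
  have htr : ∀ A : Matrix (Fin n) (Fin n) F,
      IsU σ 1 A ↔ IsU σ (antiJ F n) (X.1 * A * (X⁻¹).1) := by
    intro A
    have hJ : antiJ F n = (X⁻¹).1ᵀ * (X⁻¹).1.map σ := by
      calc antiJ F n = (X.1 * (X⁻¹).1)ᵀ * antiJ F n * (X.1 * (X⁻¹).1).map σ := by
            rw [X.mul_inv, transpose_one, Matrix.map_one _ (map_zero σ) (map_one σ), Matrix.one_mul,
              Matrix.mul_one]
        _ = (X⁻¹).1ᵀ * (X.1ᵀ * antiJ F n * X.1.map σ) * (X⁻¹).1.map σ := by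
            rw [transpose_mul, hmm]; simp only [Matrix.mul_assoc]
        _ = _ := by rw [hX, Matrix.mul_one]
    have e : (X.1 * A * (X⁻¹).1)ᵀ * antiJ F n * (X.1 * A * (X⁻¹).1).map σ =
        (X⁻¹).1ᵀ * (Aᵀ * 1 * A.map σ) * (X⁻¹).1.map σ := by
      rw [transpose_mul, transpose_mul, hmm, hmm]
      calc _ = (X⁻¹).1ᵀ * (Aᵀ * (X.1ᵀ * antiJ F n * X.1.map σ) * A.map σ) * (X⁻¹).1.map σ := by
            simp only [Matrix.mul_assoc]
        _ = _ := by rw [hX]
    constructor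
    · intro h
      show _ = _
      rw [e, show Aᵀ * 1 * A.map σ = 1 from h, Matrix.mul_one, ← hJ]
    · intro h
      show Aᵀ * 1 * A.map σ = 1
      have h' : (X⁻¹).1ᵀ * (Aᵀ * 1 * A.map σ) * (X⁻¹).1.map σ = (X⁻¹).1ᵀ * (X⁻¹).1.map σ := by
        rw [← e, ← hJ]; exact h
      have h1 : X.1ᵀ * (X⁻¹).1ᵀ = 1 := by rw [← transpose_mul, X.inv_mul, transpose_one]
      have h2 : (X⁻¹).1.map σ * X.1.map σ = 1 := by
        rw [← hmm, X.inv_mul, Matrix.map_one _ (map_zero σ) (map_one σ)]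
      have h'' := congrArg (fun M => X.1ᵀ * M * X.1.map σ) h'
      calc Aᵀ * 1 * A.map σ
          = (X.1ᵀ * (X⁻¹).1ᵀ) * (Aᵀ * 1 * A.map σ) * ((X⁻¹).1.map σ * X.1.map σ) := by
            rw [h1, h2, Matrix.one_mul (Aᵀ * 1 * A.map σ), Matrix.mul_one (Aᵀ * 1 * A.map σ)]
        _ = X.1ᵀ * ((X⁻¹).1ᵀ * (X⁻¹).1.map σ) * X.1.map σ := by
            simp only [Matrix.mul_assoc] at h'' ⊢
            exact h''
        _ = (X.1ᵀ * (X⁻¹).1ᵀ) * ((X⁻¹).1.map σ * X.1.map σ) := by simp only [Matrix.mul_assoc]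
        _ = 1 := by rw [h1, h2, Matrix.one_mul]
  have hψval : ∀ s, (ψ s).1 = X.1 * s.1.1 * (X⁻¹).1 := fun s => rfl
  have hψfix : ∀ s, ψ s ∈ fixG σ := fun s => (mem_fixG_iff hinv _).2 (by
    rw [hψval]; exact (htr _).1 ((mem_SU_iff hσ s.1).1 s.2))
  have hψdet : ∀ s, (ψ s).1.det = 1 := fun s => by
    rw [hψval, det_units_conj]; exact s.1.2
  have hψsurj : ∀ g ∈ fixG σ, g.1.det = 1 → ∃ s, ψ s = g := by
    intro g hg hd
    have h1 : ((X⁻¹).1 * g.1 * X.1).det = 1 := by rw [det_units_conj']; exact hd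
    have e : X.1 * ((X⁻¹).1 * g.1 * X.1) * (X⁻¹).1 = g.1 := by
      rw [← Units.val_mul, ← Units.val_mul, ← Units.val_mul, ← Units.val_mul]
      congr 1
      group
    obtain ⟨s, hs⟩ := exists_su hσ _ h1 ((htr _).2 (e.symm ▸ (mem_fixG_iff hinv g).1 hg))
    exact ⟨s, Units.ext (by rw [hψval, hs]; exact e)⟩
  -- the Sylow subgroup
  set U := (uni F n).comap ψ with hU
  have hUimg : uni F n ⊓ fixG σ ≤ U.map ψ := fun g hg => by
    obtain ⟨s, rfl⟩ := hψsurj g hg.2 (by
      rw [Matrix.det_of_upperTriangular (fun x y h => (mem_uni.1 hg.1).1 x y h)]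
      exact Finset.prod_eq_one fun x _ => (mem_uni.1 hg.1).2 x)
    exact Subgroup.mem_map_of_mem ψ hg.1
  have hUp : IsPGroup 2 U := fun u => by
    refine ⟨n, Subtype.ext (hψinj ?_)⟩
    push_cast
    rw [map_pow, map_one]
    refine Units.ext ?_
    rw [Units.val_pow_eq_pow_val, Units.val_one]
    exact (mem_uni.1 u.2).pow_char
  obtain ⟨P, hP⟩ := hUp.exists_le_sylow
  have hnorm : ∀ g : Cfsg.SU n F q, (∀ u ∈ U, g * u * g⁻¹ ∈ U) →
      ∃ u ∈ uni F n ⊓ fixG σ, ∃ v, dg v ∈ fixG σ ∧ ψ g = u * dg v := by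
    intro g hg
    refine exists_uni_dg heven (hψfix g) fun w hw => ?_
    obtain ⟨u, hu, rfl⟩ := hUimg hw
    have := hg u hu
    rw [hU, Subgroup.mem_comap, map_mul, map_mul, map_inv] at this
    exact this
  have hPU : (P : Subgroup (Cfsg.SU n F q)) = U := by
    by_contra hne'
    have hlt : U.subgroupOf P < ⊤ := lt_top_iff_ne_top.2 fun h =>
      hne' (le_antisymm (Subgroup.subgroupOf_eq_top.1 h) hP)
    haveI := P.isPGroup'.isNilpotent
    have hnc : NormalizerCondition (P : Subgroup (Cfsg.SU n F q)) :=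
      normalizerCondition_of_isNilpotent
    obtain ⟨⟨g, hgP⟩, hgN, hgU⟩ := SetLike.exists_of_lt (hnc _ hlt)
    refine hgU ?_
    obtain ⟨u, hu, v, hv, e⟩ := hnorm g fun u hu => by
      have h := (Subgroup.mem_normalizer_iff.1 hgN ⟨u, hP hu⟩).1 hu
      simpa [Subgroup.mem_subgroupOf] using h
    obtain ⟨k, hk⟩ := P.isPGroup' ⟨g, hgP⟩
    have hk' : g ^ 2 ^ k = 1 := congrArg Subtype.val hk
    have hgt : ∀ a b : Fin n, b < a → (ψ g).1 a b = 0 := fun a b h => by
      rw [e, Units.val_mul, dg_val, mul_diagonal, (mem_uni.1 hu.1).1 a b h, zero_mul]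
    have hgd : ∀ x, (ψ g).1 x x = v x := fun x => by
      rw [e, Units.val_mul, dg_val, mul_diagonal, (mem_uni.1 hu.1).2, one_mul]
    have hpow : ∀ j : ℕ, (∀ a b : Fin n, b < a → ((ψ g).1 ^ j) a b = 0) ∧
        ∀ x, ((ψ g).1 ^ j) x x = (v x : F) ^ j := by
      intro j
      induction j with
      | zero => exact ⟨fun a b h => by simp [one_apply_ne h.ne'], fun x => by simp⟩
      | succ j ih =>
        rw [pow_succ]
        exact ⟨fun a b h => mul_apply_lower ih.1 hgt h,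
          fun x => by rw [mul_apply_diag ih.1 hgt, ih.2, hgd, pow_succ]⟩
    have hv1 : v = 1 := funext fun x => Units.ext (by
      have h := (hpow (2 ^ k)).2 x
      rw [← Units.val_pow_eq_pow_val, ← map_pow, hk', map_one, Units.val_one, one_apply_eq] at h
      have h1 : ((v x : F) - 1) ^ 2 ^ k = 0 := by
        rw [sub_pow_char_pow, one_pow, ← h, sub_self]
      exact sub_eq_zero.1 (pow_eq_zero_iff (by positivity) |>.1 h1))
    show ψ g ∈ uni F n
    rw [e, hv1, map_one, mul_one]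
    exact hu.1
  obtain ⟨S, hS⟩ := exists_sylow_le hH
  refine CfsgLib.Known.isPronormal_of_normalizer_sylow_le S H hS fun x hx => ?_
  obtain ⟨c, hc⟩ := MulAction.exists_smul_eq (Cfsg.SU n F q) P S
  set g := c⁻¹ * x * c with hgdef
  set H₁ := H.map (MulAut.conj c⁻¹).toMonoidHom with hH₁
  have memH₁ : ∀ z, z ∈ H₁ ↔ c * z * c⁻¹ ∈ H := fun z => by
    rw [hH₁, Subgroup.mem_map_equiv, map_inv]
    rfl
  have hUH : U ≤ H₁ := fun u hu => (memH₁ u).2 (hS (by
    rw [← hc, Sylow.coe_subgroup_smul]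
    exact Subgroup.smul_mem_pointwise_smul _ (MulAut.conj c) _ (hPU.ge hu)))
  have hgN : g ∈ Subgroup.normalizer ((P : Subgroup (Cfsg.SU n F q)) : Set _) := by
    refine Sylow.smul_eq_iff_mem_normalizer.1 ?_
    rw [hgdef, mul_smul, mul_smul, hc, Sylow.smul_eq_iff_mem_normalizer.2 hx, ← hc, inv_smul_smul]
  obtain ⟨u, hu, v, hv, hgv⟩ := hnorm g fun u hu => by
    rw [← hPU] at hu ⊢
    exact (Subgroup.mem_normalizer_iff.1 hgN u).1 hu
  have hstab := le_tstable (σ := σ) heven (H₁.map ψ)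
    (hUimg.trans (Subgroup.map_mono hUH)) (by rintro _ ⟨s, -, rfl⟩; exact hψfix s)
  obtain ⟨u₀, hu₀, hue⟩ := hUimg hu
  have hconj : ∀ z ∈ H₁, g * z * g⁻¹ ∈ H₁ := by
    intro z hz
    obtain ⟨w, hw, e⟩ := (hstab (Subgroup.mem_map_of_mem _ hz)).2 v hv
    have e2 : g * z * g⁻¹ = u₀ * w * u₀⁻¹ := by
      refine hψinj ?_
      simp only [map_mul, map_inv, hgv, e, hue]
      group
    rw [e2]
    exact H₁.mul_mem (H₁.mul_mem (hUH hu₀) hw) (H₁.inv_mem (hUH hu₀))
  have hfin : ∀ h ∈ H, x * h * x⁻¹ ∈ H := by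
    intro h hh
    have h1 := (memH₁ _).1 (hconj (c⁻¹ * h * c) ((memH₁ _).2 (by simpa [mul_assoc] using hh)))
    simpa [hgdef, mul_assoc] using h1
  rw [Subgroup.mem_normalizer_iff]
  intro h
  refine ⟨hfin h, fun hh => ?_⟩
  let f : H → H := fun a => ⟨x * a * x⁻¹, hfin a a.2⟩
  have hf : Function.Injective f := fun a b e =>
    Subtype.ext (mul_left_cancel (mul_right_cancel (congrArg Subtype.val e)))
  obtain ⟨a, ha⟩ := Finite.surjective_of_injective hf ⟨_, hh⟩
  have : (a : Cfsg.SU n F q) = h := mul_left_cancel (mul_right_cancel (congrArg Subtype.val ha))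
  exact this ▸ a.2

theorem isPronormal_even [Fintype F] {q : ℕ} (hF : Fintype.card F = q ^ 2) (hq : Even q)
    (hne : Even n) (hn2 : 2 ≤ n) (hg : Nat.gcd n (q + 1) = 1)
    (H : Subgroup (Cfsg.PSU n F q)) (hH : Odd H.index) : Cfsg.IsPronormal H := by
  haveI : CharP F 2 := ringChar.of_eq (FiniteField.even_card_iff_char_two.2
    (Nat.even_iff.1 (hF ▸ hq.pow_of_ne_zero two_ne_zero)))
  set π := QuotientGroup.mk' (Subgroup.center (Cfsg.SU n F q)) with hπ
  have hbot : Subgroup.center (Cfsg.SU n F q) = ⊥ := by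
    rw [Subgroup.eq_bot_iff_card, CfsgLib.Classical.card_center_su hF hn2, hg]
  have hinj : Function.Injective π :=
    (MonoidHom.ker_eq_bot_iff π).1 (by rw [hπ, QuotientGroup.ker_mk', hbot])
  have hsurj : Function.Surjective π := QuotientGroup.mk'_surjective _
  intro g
  obtain ⟨g₀, rfl⟩ := hsurj g
  obtain ⟨x, hx, hxe⟩ := isPronormal_su_even hF hne (H.comap π)
    (by rwa [H.index_comap_of_surjective hsurj]) g₀
  have hmap : ∀ y, H.map (MulAut.conj (π y)).toMonoidHom =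
      ((H.comap π).map (MulAut.conj y).toMonoidHom).map π := fun y => by
    conv_lhs => rw [← Subgroup.map_comap_eq_self_of_surjective hsurj H]
    rw [Subgroup.map_map, Subgroup.map_map]
    congr 1
  refine ⟨π x, ?_, by rw [hmap, hmap, hxe]⟩
  rw [hmap]
  have := Subgroup.mem_map_of_mem π hx
  rwa [Subgroup.map_sup, Subgroup.map_comap_eq_self_of_surjective hsurj] at this

end CfsgLib.PronormalPSU
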