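/-
The 2-part of the order of the unitary groups of even degree, `q` odd.
-/
import Cfsg.Agent.Lib.Classical.HermOrder
import Cfsg.Agent.Lib.BlockArith.GLWreathSylow

set_option autoImplicit false

namespace CfsgLib.PronormalPSU

open CfsgLib.Classical

variable {q : ℕ}

theorem v_pow_add_one (hq : Odd q) (hq1 : 1 < q) (l : ℕ) :
    padicValNat 2 (q ^ (2 * l + 1) + 1) = padicValNat 2 (q + 1) := by
  haveI : Fact (Nat.Prime 2) := ⟨Nat.prime_two⟩
  have h2 : ¬ 2 ∣ q := by rw [← even_iff_two_dvd]; exact Nat.not_even_iff_odd.mpr hq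
  rcases (show q % 4 = 1 ∨ q % 4 = 3 by omega) with h | h
  · have := CfsgLib.GLWreathSylow.pow_mod_four h (2 * l + 1)
    rw [CfsgLib.GLWreathSylow.v_two_of_mod (by omega), CfsgLib.GLWreathSylow.v_two_of_mod (by omega)]
  · have hk : q ^ (2 * l + 1) % 4 = 3 := by
      rw [Nat.pow_mod, h, pow_succ, pow_mul, Nat.mul_mod, Nat.pow_mod]
      norm_num
    have hv := padicValNat.pow_two_sub_one (x := q) (n := 2 * (2 * l + 1)) hq1 h2 (by omega)
      (even_two_mul _)
    rw [padicValNat.mul (by norm_num) (by omega), padicValNat.self (by norm_num),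
      padicValNat.eq_zero_of_not_dvd (n := 2 * l + 1) (by omega),
      CfsgLib.GLWreathSylow.v_two_of_mod (a := q - 1) (by omega),
      show q ^ (2 * (2 * l + 1)) - 1 = (q ^ (2 * l + 1) + 1) * (q ^ (2 * l + 1) - 1) by
        rw [← Nat.sq_sub_sq, one_pow, ← pow_mul, mul_comm 2],
      padicValNat.mul (by omega) (by omega),
      CfsgLib.GLWreathSylow.v_two_of_mod (a := q ^ (2 * l + 1) - 1) (by omega)] at hv
    omega

theorem unitaryOrder_ne_zero (hq1 : 1 < q) (n : ℕ) : unitaryOrder q n ≠ 0 := by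
  refine Nat.mul_ne_zero (pow_ne_zero _ (by omega)) (Finset.prod_ne_zero_iff.2 fun i _ => ?_)
  have := Nat.one_lt_pow (Nat.succ_ne_zero i) hq1
  rw [Nat.succ_eq_add_one] at this
  split_ifs <;> omega

theorem v_unitaryOrder (hq : Odd q) (hq1 : 1 < q) (n : ℕ) :
    (unitaryOrder q (2 * n)).factorization 2 =
      n * (2 * padicValNat 2 (q + 1) + padicValNat 2 (q - 1)) + n.factorial.factorization 2 := by
  haveI : Fact (Nat.Prime 2) := ⟨Nat.prime_two⟩
  have h2 : ¬ 2 ∣ q := by rw [← even_iff_two_dvd]; exact Nat.not_even_iff_odd.mpr hq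
  have hkey : ∀ m, (unitaryOrder q m).factorization 2 =
      padicValNat 2 (∏ i ∈ Finset.range m,
        (if Even i then q ^ (i + 1) + 1 else q ^ (i + 1) - 1)) := by
    intro m
    have h := unitaryOrder_ne_zero hq1 m
    rw [unitaryOrder, mul_ne_zero_iff] at h
    rw [Nat.factorization_def _ Nat.prime_two, unitaryOrder, padicValNat.mul h.1 h.2,
      padicValNat.pow, padicValNat.eq_zero_of_not_dvd h2, mul_zero, zero_add]
  have hne : ∀ m, ∏ i ∈ Finset.range m,
      (if Even i then q ^ (i + 1) + 1 else q ^ (i + 1) - 1) ≠ 0 := fun m => by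
    have h := unitaryOrder_ne_zero hq1 m
    rw [unitaryOrder, mul_ne_zero_iff] at h
    exact h.2
  induction n with
  | zero => simp [unitaryOrder]
  | succ n ih =>
    rw [hkey] at ih
    have hpow := Nat.one_lt_pow (show 2 * n + 2 ≠ 0 by omega) hq1
    have hv := padicValNat.pow_two_sub_one (x := q) (n := 2 * (n + 1)) hq1 h2 (by omega)
      (even_two_mul _)
    rw [padicValNat.mul (by norm_num) (by omega), padicValNat.self (by norm_num)] at hv
    rw [hkey, show 2 * (n + 1) = 2 * n + 1 + 1 by ring, Finset.prod_range_succ,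
      Finset.prod_range_succ, if_pos (even_two_mul n), if_neg (Nat.not_even_two_mul_add_one n),
      padicValNat.mul (Nat.mul_ne_zero (hne _) (by omega)) (by rw [show 2 * n + 1 + 1 = 2 * n + 2 by ring]; omega),
      padicValNat.mul (hne _) (by omega), ih, v_pow_add_one hq hq1 n, Nat.factorial_succ,
      Nat.factorization_mul (by omega) n.factorial_ne_zero, Finsupp.add_apply,
      Nat.factorization_def (n + 1) Nat.prime_two, add_one_mul,
      show 2 * n + 1 + 1 = 2 * (n + 1) by ring]
    omega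

theorem fac_two_pow (i : ℕ) : (2 ^ i).factorial.factorization 2 + 1 = 2 ^ i := by
  haveI : Fact (Nat.Prime 2) := ⟨Nat.prime_two⟩
  induction i with
  | zero => simp
  | succ i ih =>
    rw [Nat.factorization_def _ Nat.prime_two] at ih ⊢
    rw [pow_succ', padicValNat_factorial_mul]
    omega

theorem v_double (hq : Odd q) (hq1 : 1 < q) (j : ℕ) :
    (unitaryOrder q (2 ^ (j + 2))).factorization 2 =
      2 * (unitaryOrder q (2 ^ (j + 1))).factorization 2 + 1 := by
  have f0 := fac_two_pow j
  have f1 := fac_two_pow (j + 1)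
  rw [pow_succ' 2 (j + 1), pow_succ' 2 j, v_unitaryOrder hq hq1, v_unitaryOrder hq hq1]
  rw [pow_succ' 2 j] at f1
  rw [mul_assoc 2 (2 ^ j)]
  omega

theorem v_two (hq : Odd q) (hq1 : 1 < q) :
    (unitaryOrder q 2).factorization 2 = 2 * padicValNat 2 (q + 1) + padicValNat 2 (q - 1) := by
  rw [show 2 = 2 * 1 from rfl, v_unitaryOrder hq hq1]
  simp

end CfsgLib.PronormalPSU
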