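/-
Sylow 2-subgroups of unitary groups of 2-power degree, `q` odd, with their normalising data.
-/
import Cfsg.Agent.Lib.PronormalPSL.Tower
import Cfsg.Agent.Lib.PronormalPSU.Order
import Cfsg.Agent.Lib.Classical.SU2

set_option autoImplicit false

namespace CfsgLib.PronormalPSU

open Matrix CfsgLib.PronormalPSL CfsgLib.Classical

variable {F : Type*} [Field F]

/-- Unitary matrices for the standard form over an arbitrary index type. -/
def gu (σ : F →+* F) (ι : Type*) [Fintype ι] [DecidableEq ι] : Subgroup (GL ι F) where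
  carrier := {g | g.1ᵀ * g.1.map σ = 1}
  one_mem' := by simp
  mul_mem' := fun {a b} ha hb => by
    show (a * b).1ᵀ * (a * b).1.map σ = 1
    rw [Units.val_mul, transpose_mul, Matrix.map_mul]
    calc b.1ᵀ * a.1ᵀ * (a.1.map σ * b.1.map σ) = b.1ᵀ * (a.1ᵀ * a.1.map σ) * b.1.map σ := by
          simp only [Matrix.mul_assoc]
      _ = 1 := by rw [show a.1ᵀ * a.1.map σ = 1 from ha, Matrix.mul_one]; exact hb
  inv_mem' := fun {a} ha => by
    show (a⁻¹).1ᵀ * (a⁻¹).1.map σ = 1
    have h2 : a.1.map σ * (a⁻¹).1.map σ = 1 := by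
      rw [← Matrix.map_mul, a.mul_inv, Matrix.map_one _ (map_zero σ) (map_one σ)]
    have h1 : (a⁻¹).1ᵀ * a.1ᵀ = 1 := by rw [← transpose_mul, a.mul_inv, transpose_one]
    calc (a⁻¹).1ᵀ * (a⁻¹).1.map σ
        = (a⁻¹).1ᵀ * (a.1ᵀ * a.1.map σ) * (a⁻¹).1.map σ := by
          rw [show a.1ᵀ * a.1.map σ = 1 from ha, Matrix.mul_one]
      _ = ((a⁻¹).1ᵀ * a.1ᵀ) * (a.1.map σ * (a⁻¹).1.map σ) := by simp only [Matrix.mul_assoc]
      _ = 1 := by rw [h1, h2, Matrix.one_mul]

variable {ι : Type*} [Fintype ι] [DecidableEq ι] {σ : F →+* F}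

theorem mem_gu {g : GL ι F} : g ∈ gu σ ι ↔ g.1ᵀ * g.1.map σ = 1 := Iff.rfl

theorem bd_mem_gu {a b : GL ι F} (ha : a ∈ gu σ ι) (hb : b ∈ gu σ ι) :
    bd (a, b) ∈ gu σ (ι ⊕ ι) := by
  rw [mem_gu] at ha hb ⊢
  rw [bd_val, fromBlocks_transpose, fromBlocks_map, fromBlocks_multiply]
  simp [ha, hb]

theorem swap_mem_gu : (swapGL : GL (ι ⊕ ι) F) ∈ gu σ (ι ⊕ ι) := by
  rw [mem_gu]
  simp [swapGL, fromBlocks_transpose, fromBlocks_map, fromBlocks_multiply]

theorem double_le_gu {K : Subgroup (GL ι F)} (hK : K ≤ gu σ ι) :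
    double K ≤ gu σ (ι ⊕ ι) := by
  rintro x ⟨a, ha, b, hb, rfl | rfl⟩
  · exact bd_mem_gu (hK ha) (hK hb)
  · exact mul_mem (bd_mem_gu (hK ha) (hK hb)) swap_mem_gu

theorem glReindex_mem_gu {κ : Type*} [Fintype κ] [DecidableEq κ] (e : ι ≃ κ) {g : GL ι F} :
    CfsgLib.GLWreathSylow.glReindex e g ∈ gu σ κ ↔ g ∈ gu σ ι := by
  rw [mem_gu, mem_gu]
  show (g.1.submatrix e.symm e.symm)ᵀ * (g.1.submatrix e.symm e.symm).map σ = 1 ↔ _
  rw [transpose_submatrix, ← submatrix_map, submatrix_mul_equiv]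
  constructor
  · intro h
    have := congrArg (fun M => M.submatrix e e) h
    simpa using this
  · intro h
    rw [h, submatrix_one_equiv]

theorem mem_GU_iff {n q : ℕ} (hσ : ∀ a, σ a = a ^ q) (g : GL (Fin n) F) :
    g ∈ Cfsg.GU n F q ↔ g ∈ gu σ (Fin n) := by
  have hform : ∀ u v : Fin n → F, Cfsg.hermForm n F q u v = u ⬝ᵥ (σ ∘ v) := by
    intro u v; simp [Cfsg.hermForm, dotProduct, hσ]
  have hexp : ∀ u v : Fin n → F, Cfsg.hermForm n F q (g.1 *ᵥ u) (g.1 *ᵥ v) =
      u ⬝ᵥ ((g.1ᵀ * g.1.map σ) *ᵥ (σ ∘ v)) := by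
    intro u v
    rw [hform, ← mulVec_mulVec, dotProduct_mulVec u g.1ᵀ, vecMul_transpose]
    congr 1
    funext i
    exact RingHom.map_mulVec σ g.1 v i
  rw [mem_gu]
  constructor
  · intro h
    ext i j
    have h1 := h (Pi.single i 1) (Pi.single j 1)
    simp only [Units.coeHom_apply] at h1
    rw [hexp, hform] at h1
    have hs : σ ∘ (Pi.single j (1 : F) : Fin n → F) = Pi.single j 1 := by
      funext k
      rcases eq_or_ne k j with rfl | hk
      · simp only [Function.comp_apply, Pi.single_eq_same, map_one]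
      · simp only [Function.comp_apply, Pi.single_eq_of_ne hk, map_zero]
    rw [hs, single_one_dotProduct, single_one_dotProduct] at h1
    simpa [Matrix.one_apply, Pi.single_apply, mulVec_single] using h1
  · intro h u v
    simp only [Units.coeHom_apply]
    rw [hexp, h, one_mulVec, hform]

theorem GU_eq {n q : ℕ} (hσ : ∀ a, σ a = a ^ q) : Cfsg.GU n F q = gu σ (Fin n) :=
  SetLike.ext fun g => mem_GU_iff hσ g

theorem det_gu {q : ℕ} (hσ : ∀ a, σ a = a ^ q) {g : GL ι F} (hg : g ∈ gu σ ι) :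
    GeneralLinearGroup.det g ^ (q + 1) = 1 := by
  refine Units.ext ?_
  have h := congrArg Matrix.det (mem_gu.1 hg)
  rw [det_mul, det_transpose, ← RingHom.mapMatrix_apply, ← RingHom.map_det, hσ, det_one,
    ← pow_succ'] at h
  rw [Units.val_pow_eq_pow_val, Units.val_one, GeneralLinearGroup.val_det_apply]
  exact h

section

variable [Fintype F] {q : ℕ}

theorem base_three (hF : Fintype.card F = q ^ 2) (hσ : ∀ a, σ a = a ^ q) (hq : q % 4 = 3) :
    ∃ K : Subgroup (GL (Fin 1 ⊕ Fin 1) F), Core K ∧ K ≤ gu σ (Fin 1 ⊕ Fin 1) ∧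
      Nat.card K = 2 ^ (unitaryOrder q 2).factorization 2 := by
  haveI : Fact (Nat.Prime 2) := ⟨Nat.prime_two⟩
  have hq1 : 1 < q := by omega
  have h2 : (2 : F) ≠ 0 := two_ne_zero_of_odd_card (hF ▸ (Nat.odd_iff.2 (by omega : q % 2 = 1)).pow)
  set a := padicValNat 2 (q + 1) with ha
  have hd : 2 ^ a ∣ q + 1 := pow_padicValNat_dvd
  have ha2 : 2 ≤ a := by
    refine (padicValNat_dvd_iff_le (by omega)).1 ?_
    norm_num; omega
  set M := (powMonoidHom (2 ^ a) : Fˣ →* Fˣ).ker with hM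
  have hMc : Nat.card M = 2 ^ a := by
    rw [hM, IsCyclic.card_powMonoidHom_ker, Nat.card_units, Nat.card_eq_fintype_card, hF,
      show q ^ 2 - 1 = (q + 1) * (q - 1) by rw [← Nat.sq_sub_sq, one_pow]]
    exact Nat.gcd_eq_right (hd.mul_right _)
  have hsc : Function.Injective (scal F (Fin 1)) := fun x y h => by
    have := congrArg (fun g : GL (Fin 1) F => g.1 0 0) h
    rw [scal_val, scal_val, Matrix.smul_apply, Matrix.smul_apply, one_apply_eq, smul_eq_mul,
      smul_eq_mul, mul_one, mul_one] at this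
    exact Units.ext this
  set W := M.map (scal F (Fin 1)) with hW
  have hWc : Nat.card W = 2 ^ a := by rw [hW, Subgroup.card_map_of_injective hsc, hMc]
  have hneg : (-1 : GL (Fin 1) F) ∈ W := by
    refine ⟨-1, MonoidHom.mem_ker.2 ?_, Units.ext ?_⟩
    · rw [powMonoidHom_apply, Even.neg_one_pow (Nat.even_pow.2 ⟨even_two, by omega⟩)]
    · rw [scal_val]; simp
  refine ⟨double W, core_base_one h2 W (IsPGroup.of_card hWc) hneg
    (hWc ▸ pow_dvd_pow 2 ha2), double_le_gu ?_, ?_⟩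
  · rintro x ⟨r, hr, rfl⟩
    have h1 : r ^ (q + 1) = 1 := by
      obtain ⟨k, hk⟩ := hd
      rw [hk, pow_mul, show r ^ 2 ^ a = 1 from MonoidHom.mem_ker.1 hr, one_pow]
    rw [mem_gu, scal_val, smul_one_eq_diagonal, diagonal_transpose, diagonal_map (map_zero σ),
      diagonal_mul_diagonal, ← diagonal_one]
    congr 1
    funext i

    rw [hσ, ← pow_succ', ← Units.val_pow_eq_pow_val, h1, Units.val_one]
  · rw [card_double, hWc, v_two (Nat.odd_iff.2 (by omega)) hq1, ← ha,
      CfsgLib.GLWreathSylow.v_two_of_mod (a := q - 1) (by omega)]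
    ring

theorem base_one (hF : Fintype.card F = q ^ 2) (hσ : ∀ a, σ a = a ^ q) (hq : q % 4 = 1) :
    ∃ K : Subgroup (GL (Fin 2) F), Core K ∧ K ≤ gu σ (Fin 2) ∧
      Nat.card K = 2 ^ (unitaryOrder q 2).factorization 2 := by
  classical
  haveI : Fact (Nat.Prime 2) := ⟨Nat.prime_two⟩
  have hq1 : 1 < q := two_le_q hF
  have hodd : Odd q := Nat.odd_iff.2 (by omega)
  have h2 : (2 : F) ≠ 0 := two_ne_zero_of_odd_card (hF ▸ hodd.pow)
  -- the reflection
  obtain ⟨R, hR⟩ := exists_gu_diag hF ![-1, 1] (fun i => by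
    fin_cases i <;> simp [Even.neg_one_pow (show Even (q + 1) from hodd.add_one)])
  have hR2 : R ^ 2 ^ 1 = 1 := by
    refine Subtype.ext (Units.ext ?_)
    rw [pow_one, pow_two, Subgroup.coe_mul, Units.val_mul, hR, diagonal_mul_diagonal]
    ext i j
    fin_cases i <;> fin_cases j <;> simp
  have hpow : ∀ g : Cfsg.GU 2 F q, g ^ 2 ^ 1 = 1 → IsPGroup 2 (Subgroup.zpowers g) := fun g hg => by
    obtain ⟨j, -, hj⟩ := (Nat.dvd_prime_pow Nat.prime_two).1 (orderOf_dvd_of_pow_eq_one hg)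
    exact IsPGroup.of_card (n := j) (by rw [Nat.card_zpowers, hj])
  obtain ⟨P, hP⟩ := (hpow R hR2).exists_le_sylow
  set W := (P : Subgroup (Cfsg.GU 2 F q)).map (Cfsg.GU 2 F q).subtype with hW
  have hWp : IsPGroup 2 W := P.isPGroup'.map _
  have hWgu : W ≤ gu σ (Fin 2) := (Subgroup.map_subtype_le _).trans (GU_eq hσ).le
  have hWc : Nat.card W = 2 ^ (unitaryOrder q 2).factorization 2 := by
    rw [hW, Subgroup.card_map_of_injective (Subgroup.subtype_injective _), P.card_eq_multiplicity,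
      card_gu hF]
  have hdet : ∀ x ∈ W, GeneralLinearGroup.det x = 1 ∨ GeneralLinearGroup.det x = -1 := by
    intro x hx
    obtain ⟨k, hk⟩ := exists_two_pow hWp hx
    have h1 : GeneralLinearGroup.det x ^ 2 ^ k = 1 := by rw [← map_pow, hk, map_one]
    have h3 : orderOf (GeneralLinearGroup.det x) ∣ 2 := by
      obtain ⟨i, -, hi⟩ := (Nat.dvd_prime_pow Nat.prime_two).1 (orderOf_dvd_of_pow_eq_one h1)
      have h4 := orderOf_dvd_of_pow_eq_one (det_gu hσ (hWgu hx))
      rw [hi] at h4 ⊢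
      refine Nat.pow_dvd_pow 2 (n := 1) ?_
      by_contra hi2
      have h5 : 2 ^ 2 ∣ q + 1 := (Nat.pow_dvd_pow 2 (by omega)).trans h4
      norm_num at h5
      omega
    have h6 : ((GeneralLinearGroup.det x : Fˣ) : F) * GeneralLinearGroup.det x = 1 := by
      rw [← Units.val_mul, ← pow_two, orderOf_dvd_iff_pow_eq_one.1 h3, Units.val_one]
    rcases mul_self_eq_one_iff.1 h6 with e | e
    · exact Or.inl (Units.ext e)
    · exact Or.inr (Units.ext (by rw [e, Units.val_neg, Units.val_one]))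
  -- the scalar `-1`
  obtain ⟨C, hC⟩ := exists_gu_diag hF (fun _ : Fin 2 => (-1 : F)) (fun _ => by
    simp [Even.neg_one_pow (show Even (q + 1) from hodd.add_one)])
  have hC1 : (C : GL (Fin 2) F) = -1 := Units.ext (by
    rw [hC, Units.val_neg, Units.val_one]
    ext i j
    fin_cases i <;> fin_cases j <;> simp)
  have hneg : (-1 : GL (Fin 2) F) ∈ W := by
    refine ⟨C, ?_, hC1⟩
    have hC2 : C ^ 2 ^ 1 = 1 := Subtype.ext (by
      rw [pow_one, pow_two, Subgroup.coe_mul, hC1]; simp)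
    have hsup : IsPGroup 2 ((P : Subgroup (Cfsg.GU 2 F q)) ⊔ Subgroup.zpowers C : Subgroup _) :=
      P.isPGroup'.to_sup_of_normal_left' (hpow C hC2) (Subgroup.zpowers_le.2
        (Subgroup.center_le_normalizer _ (Subgroup.mem_center_iff.2 fun g => Subtype.ext (by
          rw [Subgroup.coe_mul, Subgroup.coe_mul, hC1]; simp))))
    have := P.3 hsup le_sup_left
    exact this.le (Subgroup.mem_sup_right (Subgroup.mem_zpowers C))
  have hns : ∀ x ∈ W, GeneralLinearGroup.det x = -1 →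
      ¬(x.1 0 1 = 0 ∧ x.1 1 0 = 0 ∧ x.1 0 0 = x.1 1 1) := by
    rintro x hx hxd ⟨h01, h10, h00⟩
    have hd : x.1.det = -1 := by
      rw [← GeneralLinearGroup.val_det_apply, hxd, Units.val_neg, Units.val_one]
    rw [Matrix.det_fin_two, h01, h00] at hd
    have hN := congrFun (congrFun (mem_gu.1 (hWgu hx)) 1) 1
    simp [Matrix.mul_apply, Fin.sum_univ_two, h01, hσ, zero_pow (show q ≠ 0 by omega)] at hN
    have hr : x.1 1 1 ^ 2 = -1 := by linear_combination hd
    obtain ⟨c, hc, hco⟩ : ∃ c, q + 1 = 2 * c ∧ Odd c :=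
      ⟨(q + 1) / 2, by omega, Nat.odd_iff.2 (by omega)⟩
    have : x.1 1 1 ^ (q + 1) = 1 := by rw [pow_succ', hN]
    rw [hc, pow_mul, hr, hco.neg_one_pow] at this
    exact h2 (by linear_combination -this)
  have hs : (R : GL (Fin 2) F) ∈ W := ⟨R, hP (Subgroup.mem_zpowers R), rfl⟩
  have hsd : GeneralLinearGroup.det (R : GL (Fin 2) F) = -1 := Units.ext (by
    rw [GeneralLinearGroup.val_det_apply, hR, det_diagonal]; simp)
  -- two non-commuting elements of determinant one
  obtain ⟨u, hu, v, hv, hu1, hv1, huv⟩ : ∃ u ∈ W, ∃ v ∈ W, GeneralLinearGroup.det u = 1 ∧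
      GeneralLinearGroup.det v = 1 ∧ u * v ≠ v * u := by
    obtain ⟨p, _⟩ := CharP.exists F
    haveI hp : Fact p.Prime := ⟨CharP.char_is_prime F p⟩
    obtain ⟨m, -, hm⟩ := FiniteField.card F p
    rw [hF] at hm
    obtain ⟨j, -, hj⟩ := (Nat.dvd_prime_pow hp.out).1
      (hm ▸ dvd_pow_self q two_ne_zero : q ∣ p ^ (m : ℕ))
    have hj0 : j ≠ 0 := fun h => by rw [h, pow_zero] at hj; omega
    letI : Fintype (GaloisField p j) := Fintype.ofFinite _
    have hK : Fintype.card (GaloisField p j) = q := by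
      rw [← Nat.card_eq_fintype_card, GaloisField.card p j hj0, hj]
    obtain ⟨e⟩ := su_two_equiv_sl_two (K := GaloisField p j) hF hK
    let f : Cfsg.SU 2 F q →* Cfsg.GU 2 F q :=
      (SpecialLinearGroup.toGL.comp (Cfsg.SU 2 F q).subtype).codRestrict _ fun s => s.2
    have hf : Function.Injective f := fun a b h =>
      Subtype.ext (SpecialLinearGroup.toGL_injective (congrArg Subtype.val h))
    haveI : f.range.Normal := by
      have : f.range = (guDet 2 F q).ker := by
        ext g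
        constructor
        · rintro ⟨s, rfl⟩
          exact MonoidHom.mem_ker.2 (Units.ext s.1.2)
        · intro hg
          exact ⟨⟨⟨(g : GL (Fin 2) F).1, congrArg Units.val (MonoidHom.mem_ker.1 hg)⟩, g.2⟩,
            Subtype.ext (Units.ext rfl)⟩
      rw [this]; exact MonoidHom.normal_ker _
    let g := f.comp e.symm.toMonoidHom
    have hg : Function.Injective g := hf.comp e.symm.injective
    haveI : g.range.Normal := by
      rw [MonoidHom.range_comp, MonoidHom.range_eq_top.2 e.symm.surjective,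
        ← MonoidHom.range_eq_map]
      infer_instance
    have hc := CfsgLib.WreathSquares.card_comap_eq g hg _ P.card_eq_multiplicity
    have h2K : (2 : GaloisField p j) ≠ 0 := two_ne_zero_of_odd_card (hK.symm ▸ hodd)
    obtain ⟨k, hk, ⟨e'⟩⟩ := CfsgLib.Classical.SL2Q.sylow_two_quaternion h2K (Sylow.ofCard _ hc)
    haveI : NeZero (2 ^ k) := ⟨(Nat.two_pow_pos k).ne'⟩
    set x := e'.symm (QuaternionGroup.a 1)
    set y := e'.symm (QuaternionGroup.xa 0)
    refine ⟨_, ⟨g x.1, x.2, rfl⟩, _, ⟨g y.1, y.2, rfl⟩, Units.ext (e.symm x.1).1.2,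
      Units.ext (e.symm y.1).1.2, fun h => ?_⟩
    have h' : x * y = y * x := Subtype.ext (hg (by
      rw [Subgroup.coe_mul, Subgroup.coe_mul, map_mul, map_mul]
      exact Subgroup.subtype_injective _ (by rw [map_mul, map_mul]; exact h)))
    have h'' := congrArg e' h'
    rw [map_mul, map_mul, e'.apply_symm_apply, e'.apply_symm_apply, QuaternionGroup.a_mul_xa,
      QuaternionGroup.xa_mul_a] at h''
    have h3 : (0 : ZMod (2 * 2 ^ k)) - 1 = 0 + 1 := QuaternionGroup.xa.inj h''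
    have h4 : ((2 : ℕ) : ZMod (2 * 2 ^ k)) = 0 := by
      push_cast
      linear_combination -h3
    rw [ZMod.natCast_eq_zero_iff] at h4
    have h5 := Nat.le_of_dvd two_pos h4
    have : 2 ≤ 2 ^ k := (le_of_eq (pow_one 2).symm).trans (Nat.pow_le_pow_right two_pos hk)
    omega
  exact ⟨W, core_base_two h2 W hWp hdet hneg hns hu hv hu1 hv1 huv hs hsd, hWgu, hWc⟩

/-- The unitary tower. -/
theorem exists_core (hF : Fintype.card F = q ^ 2) (hσ : ∀ a, σ a = a ^ q) (hodd : Odd q) : ∀ j : ℕ,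
    ∃ (κ : Type) (_ : Fintype κ) (_ : DecidableEq κ) (_ : Nonempty κ) (K : Subgroup (GL κ F)),
      Fintype.card κ = 2 ^ (j + 1) ∧ Core K ∧ K ≤ gu σ κ ∧
        Nat.card K = 2 ^ (unitaryOrder q (2 ^ (j + 1))).factorization 2 := by
  intro j
  induction j with
  | zero =>
    rcases (show q % 4 = 1 ∨ q % 4 = 3 by have := Nat.odd_iff.1 hodd; omega) with hq | hq
    · obtain ⟨K, hK⟩ := base_one hF hσ hq
      exact ⟨Fin 2, inferInstance, inferInstance, inferInstance, K, by simp, hK⟩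
    · obtain ⟨K, hK⟩ := base_three hF hσ hq
      exact ⟨Fin 1 ⊕ Fin 1, inferInstance, inferInstance, inferInstance, K, by simp, hK⟩
  | succ j ih =>
    obtain ⟨κ, _, _, _, K, hκ, hK, hgu, hc⟩ := ih
    refine ⟨κ ⊕ κ, inferInstance, inferInstance, inferInstance, double K,
      by rw [Fintype.card_sum, hκ]; ring,
      hK.double' (two_ne_zero_of_odd_card (hF ▸ hodd.pow)), double_le_gu hgu, ?_⟩
    rw [card_double, hc, v_double hodd (two_le_q hF) j]
    ring

end

end CfsgLib.PronormalPSU
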