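/-
Pronormality modulo the centre from centralised odd-order normalising elements.
-/
import Cfsg.Agent.Lib.PronormalPSL.Abstract

set_option autoImplicit false

namespace CfsgLib.PronormalPSU

open CfsgLib.PronormalPSL

/-- If odd-order elements normalising a Sylow 2-subgroup are central, then odd-index subgroups of
the central quotient are pronormal. -/
theorem isPronormal_central_quotient {G : Type*} [Group G] [Finite G] (P : Sylow 2 G)
    (hscal : ∀ g : G, Odd (orderOf g) →
      (∀ p ∈ (P : Subgroup G), g * p * g⁻¹ ∈ (P : Subgroup G)) → g ∈ Subgroup.center G)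
    (H : Subgroup (G ⧸ Subgroup.center G)) (hH : Odd H.index) : Cfsg.IsPronormal H := by
  haveI : Fact (Nat.Prime 2) := ⟨Nat.prime_two⟩
  set π : G →* G ⧸ Subgroup.center G := QuotientGroup.mk' (Subgroup.center G) with hπdef
  have hπs : Function.Surjective π := QuotientGroup.mk'_surjective _
  refine isPronormal_of_self_normalizing (P.mapSurjective hπs) (fun x hx => ?_) H hH
  obtain ⟨g, rfl⟩ := hπs x
  rw [Sylow.coe_mapSurjective] at hx ⊢
  -- `g` normalises `P`
  have hgP : g ∈ Subgroup.normalizer ((P : Subgroup G) : Set _) := by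
    set Z := Subgroup.center G
    have hsub : ∀ p ∈ (P : Subgroup G),
        g * p * g⁻¹ ∈ (P : Subgroup G) := by
      intro p hp
      have h := (Subgroup.mem_normalizer_iff.1 hx (π p)).1 (Subgroup.mem_map_of_mem π hp)
      rw [← map_inv, ← map_mul, ← map_mul] at h
      obtain ⟨q, hq, e'⟩ := h
      obtain ⟨z, hz, e''⟩ := (QuotientGroup.mk'_eq_mk' _).1 e'
      have hzc : Commute q z := Subgroup.mem_center_iff.1 hz q
      obtain ⟨a, ha⟩ := P.isPGroup' ⟨p, hp⟩
      obtain ⟨b, hb⟩ := P.isPGroup' ⟨q, hq⟩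
      have hp2 : (g * p * g⁻¹) ^ 2 ^ (a + b) = 1 := by
        rw [conj_pow, pow_add, pow_mul, show p ^ 2 ^ a = 1 from congrArg Subtype.val ha, one_pow]
        group
      have hq2 : q ^ 2 ^ (a + b) = 1 := by
        rw [pow_add, mul_comm, pow_mul, show q ^ 2 ^ b = 1 from congrArg Subtype.val hb, one_pow]
      rw [← e'', hzc.mul_pow, hq2, one_mul] at hp2
      have hzP : z ∈ (P : Subgroup G) := by
        obtain ⟨i, -, hi⟩ := (Nat.dvd_prime_pow Nat.prime_two).1 (orderOf_dvd_of_pow_eq_one hp2)
        have hsup : IsPGroup 2 ((P : Subgroup G) ⊔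
            Subgroup.zpowers z : Subgroup G) :=
          P.isPGroup'.to_sup_of_normal_left'
            (IsPGroup.of_card (n := i) (by rw [Nat.card_zpowers, hi]))
            (Subgroup.zpowers_le.2 (Subgroup.center_le_normalizer _ hz))
        rw [← P.3 hsup le_sup_left]
        exact Subgroup.mem_sup_right (Subgroup.mem_zpowers z)
      rw [← e'']
      exact Subgroup.mul_mem _ hq hzP
    rw [Subgroup.mem_normalizer_iff]
    intro p
    refine ⟨hsub p, fun hp => ?_⟩
    obtain ⟨q, hq⟩ := Finite.surjective_of_injective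
      (f := fun q : (P : Subgroup G) =>
        (⟨g * q * g⁻¹, hsub q q.2⟩ : (P : Subgroup G)))
      (fun u v e' => Subtype.ext (mul_left_cancel (mul_right_cancel (congrArg Subtype.val e'))))
      ⟨_, hp⟩
    have : (q : G) = p :=
      mul_left_cancel (mul_right_cancel (congrArg Subtype.val hq))
    exact this ▸ q.2
  obtain ⟨i, o, ho, hio⟩ : ∃ i o, Odd o ∧ orderOf g = 2 ^ i * o := by
    obtain ⟨i, o, ho, e'⟩ := Nat.exists_eq_pow_mul_and_not_dvd (orderOf_pos g).ne' 2 (by norm_num)
    exact ⟨i, o, Nat.not_even_iff_odd.1 fun h => ho (even_iff_two_dvd.1 h), e'⟩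
  have hoc : g ^ 2 ^ i ∈ Subgroup.center G := by
    refine hscal _ (ho.of_dvd_nat (orderOf_dvd_of_pow_eq_one (by rw [← pow_mul, ← hio, pow_orderOf_eq_one])))
      fun p hp => (Subgroup.mem_normalizer_iff.1 (pow_mem hgP _) p).1 hp
  -- so the image has 2-power order
  have hord : π g ^ 2 ^ i = 1 := by
    rw [← map_pow]
    exact (QuotientGroup.eq_one_iff _).2 hoc
  obtain ⟨k, -, hk⟩ := (Nat.dvd_prime_pow Nat.prime_two).1 (orderOf_dvd_of_pow_eq_one hord)
  set S := (P : Subgroup G).map π with hS
  have hSp : IsPGroup 2 S := P.isPGroup'.map π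
  have hsup : IsPGroup 2 (S ⊔ Subgroup.zpowers (π g) : Subgroup _) :=
    hSp.to_sup_of_normal_left' (IsPGroup.of_card (n := k) (by rw [Nat.card_zpowers, hk]))
      (Subgroup.zpowers_le.2 hx)
  have hmax := (P.mapSurjective hπs).3 hsup
    (by rw [Sylow.coe_mapSurjective]; exact le_sup_left)
  rw [Sylow.coe_mapSurjective] at hmax
  show π g ∈ (P : Subgroup G).map π
  rw [← hmax]
  exact Subgroup.mem_sup_right (Subgroup.mem_zpowers _)


end CfsgLib.PronormalPSU
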