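/-
Subgroups of odd index in `PSU(2^w, q)`, `q` odd, are pronormal.
-/
import Cfsg.Agent.Lib.PronormalPSU.OddTower
import Cfsg.Agent.Lib.PronormalPSU.Quot

set_option autoImplicit false

namespace CfsgLib.PronormalPSU

open Matrix CfsgLib.PronormalPSL CfsgLib.Classical

variable {F : Type*} [Field F] [Fintype F] {q : ℕ}

theorem isPronormal_odd (hF : Fintype.card F = q ^ 2) (hodd : Odd q) (j : ℕ)
    (H : Subgroup (Cfsg.PSU (2 ^ (j + 2)) F q)) (hH : Odd H.index) : Cfsg.IsPronormal H := by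
  haveI : Fact (Nat.Prime 2) := ⟨Nat.prime_two⟩
  have h2 : (2 : F) ≠ 0 := two_ne_zero_of_odd_card (hF ▸ hodd.pow)
  obtain ⟨σ, hσ, -, -⟩ := exists_qPow hF
  obtain ⟨κ, _, _, _, K, hκ, hK, hgu, hc⟩ := exists_core hF hσ hodd j
  have hstat := hK.stat_special h2
  revert H hH
  set n := 2 ^ (j + 2) with hn
  set E : κ ⊕ κ ≃ Fin n :=
    Fintype.equivFinOfCardEq (by rw [Fintype.card_sum, hκ, hn]; ring) with hE
  set e : GL (κ ⊕ κ) F ≃* GL (Fin n) F := CfsgLib.GLWreathSylow.glReindex E with he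
  -- the Sylow subgroup of the unitary group
  set D := ((double K).map e.toMonoidHom).subgroupOf (Cfsg.GU n F q) with hD
  have hle : (double K).map e.toMonoidHom ≤ Cfsg.GU n F q := by
    rintro x ⟨y, hy, rfl⟩
    exact (mem_GU_iff hσ _).2 ((glReindex_mem_gu E).2 (double_le_gu hgu hy))
  have hDc : Nat.card D = 2 ^ (Nat.card (Cfsg.GU n F q)).factorization 2 := by
    rw [hD, Nat.card_congr (Subgroup.subgroupOfEquivOfLe hle).toEquiv,
      Subgroup.card_map_of_injective (f := e.toMonoidHom) e.injective, card_double, hc,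
      card_gu hF, hn, v_double hodd (two_le_q hF)]
    ring
  let f : Cfsg.SU n F q →* Cfsg.GU n F q :=
    (SpecialLinearGroup.toGL.comp (Cfsg.SU n F q).subtype).codRestrict _ fun s => s.2
  have hf : Function.Injective f := fun a b h =>
    Subtype.ext (SpecialLinearGroup.toGL_injective (congrArg Subtype.val h))
  haveI : f.range.Normal := by
    have : f.range = (guDet n F q).ker := by
      ext g
      constructor
      · rintro ⟨s, rfl⟩
        exact MonoidHom.mem_ker.2 (Units.ext s.1.2)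
      · intro hg
        exact ⟨⟨⟨(g : GL (Fin n) F).1, congrArg Units.val (MonoidHom.mem_ker.1 hg)⟩, g.2⟩,
          Subtype.ext (Units.ext rfl)⟩
    rw [this]; exact MonoidHom.normal_ker _
  set P := Sylow.ofCard _ (CfsgLib.WreathSquares.card_comap_eq f hf D hDc) with hPdef
  set Φ : Cfsg.SU n F q →* GL (κ ⊕ κ) F :=
    e.symm.toMonoidHom.comp ((Cfsg.GU n F q).subtype.comp f) with hΦ
  have hΦinj : Function.Injective Φ :=
    e.symm.injective.comp ((Subgroup.subtype_injective _).comp hf)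
  have hΦdet : ∀ g, GeneralLinearGroup.det (Φ g) = 1 := fun g => by
    rw [← CfsgLib.GLWreathSylow.det_glReindex E (Φ g), ← he,
      show e (Φ g) = (f g : GL (Fin n) F) from e.apply_symm_apply _]
    exact Units.ext g.1.2
  have hmemP : ∀ g, g ∈ (P : Subgroup (Cfsg.SU n F q)) ↔ Φ g ∈ double K := fun g => by
    rw [hPdef, Sylow.coe_ofCard, Subgroup.mem_comap, hD, Subgroup.mem_subgroupOf,
      Subgroup.mem_map_equiv]
    rfl
  refine isPronormal_central_quotient P fun g hgo hg => ?_
  obtain ⟨r, hr⟩ := hstat (Φ g) (by rw [orderOf_injective Φ hΦinj]; exact hgo) fun k hk => by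
    obtain ⟨p, hp⟩ : ∃ p : Cfsg.SU n F q, Φ p = k := by
      have hdet : GeneralLinearGroup.det (e k) = 1 := by
        rw [he, CfsgLib.GLWreathSylow.det_glReindex, MonoidHom.mem_ker.1 hk.2]
      refine ⟨⟨⟨(e k).1, congrArg Units.val hdet⟩, hle ⟨k, hk.1, Units.ext rfl⟩⟩, ?_⟩
      show e.symm (SpecialLinearGroup.toGL _) = k
      rw [MulEquiv.symm_apply_eq]
      exact Units.ext rfl
    subst hp
    rw [← map_inv, ← map_mul, ← map_mul]
    exact ⟨(hmemP _).1 (hg p ((hmemP p).2 hk.1)), MonoidHom.mem_ker.2 (hΦdet _)⟩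
  refine Subgroup.mem_center_iff.2 fun x => hΦinj ?_
  rw [map_mul, map_mul, hr]
  refine Units.ext ?_
  rw [Units.val_mul, Units.val_mul, scal_val, mul_smul_comm, mul_one, smul_mul_assoc, one_mul]

end CfsgLib.PronormalPSU
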